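import Groth.Agent.SchDescent.Glue

/-!
# One-member families
-/

set_option autoImplicit false
set_option backward.isDefEq.respectTransparency false
set_option backward.isDefEq.respectTransparency.types false

universe w u

open CategoryTheory CategoryTheory.Limits AlgebraicGeometry Desc

namespace Groth.Agent.SchDescent

variable {X S : Scheme.{u}} {p : X ⟶ S}

/-- Effectivity for one morphism from effectivity of the one-member family. -/
theorem effective_of_isEffective (D : SchDD p)
    (h : ((SchDDFam.ofSchDD.{w} p).obj D).IsEffective) : ∃ U : Over S, Nonempty ((toDD p).obj U ≅ D) := by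
  obtain ⟨U, ⟨e⟩⟩ := h
  exact ⟨U, ⟨(SchDDFam.toSchDD.{w} p).mapIso e⟩⟩

/-- A morphism to a descent datum from a canonical one, as one-member families. -/
noncomputable def ofHom {U : Over S} {D : SchDD p} (a : (toDD p).obj U ⟶ D) :
    (toDDFam (fun _ : PUnit.{w + 1} => p)).obj U ⟶ (SchDDFam.ofSchDD.{w} p).obj D :=
  (SchDDFam.ofSchDD.{w} p).map a

lemma cm_ofHom {U : Over S} {D : SchDD p} (a : (toDD p).obj U ⟶ D) (i : PUnit.{w + 1}) :
    cm (ofHom.{w} a) i = a.hom.left := rfl

/-- A descent datum covered by effective open pieces is effective. -/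
theorem effective_of_cover [Surjective p] [Flat p] [QuasiCompact p] (D : SchDD p) {κ : Type u}
    {U : κ → Over S} (a : ∀ k, (toDD p).obj (U k) ⟶ D) (ha : ∀ k, IsOpenImmersion (a k).hom.left)
    (hc : ∀ v : D.obj.left, ∃ k, v ∈ Set.range (a k).hom.left) :
    ∃ U : Over S, Nonempty ((toDD p).obj U ≅ D) := by
  haveI : ∀ k i, IsOpenImmersion (cm (ofHom.{0} (a k)) i) := fun k i ↦ ha k
  exact effective_of_isEffective D (isEffective_of_cover (isCover_singleton p) (fun k ↦ ofHom.{0} (a k))
    fun i v ↦ hc v)

end Groth.Agent.SchDescent
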