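import Mathlib.AlgebraicGeometry.Sites.Fpqc
import Mathlib.AlgebraicGeometry.Morphisms.Flat
import Mathlib.AlgebraicGeometry.Sites.MorphismProperty

/-!
# Gluing along fpqc covers
-/

set_option autoImplicit false
set_option backward.isDefEq.respectTransparency.types false

universe w u

open CategoryTheory CategoryTheory.Limits AlgebraicGeometry Opposite

namespace Groth.Agent.SchDescent

variable {Y : Scheme.{u}} {κ : Type w} {W : κ → Scheme.{u}} {z : ∀ k, W k ⟶ Y}

/-- `W → Y` is an fpqc covering. -/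
abbrev IsCover (z : ∀ k, W k ⟶ Y) : Prop := Presieve.ofArrows W z ∈ Scheme.fpqcPrecoverage Y

theorem existsUnique_glue (hz : IsCover z) {Z : Scheme.{u}} (φ : ∀ k, W k ⟶ Z)
    (compat : ∀ (k k' : κ) (T : Scheme.{u}) (a : T ⟶ W k) (b : T ⟶ W k'),
      a ≫ z k = b ≫ z k' → a ≫ φ k = b ≫ φ k') :
    ∃! t : Y ⟶ Z, ∀ k, z k ≫ t = φ k := by
  have h : (Presieve.ofArrows W z).IsSheafFor (yoneda.obj Z) := by
    exact (GrothendieckTopology.Subcanonical.isSheaf_of_isRepresentable
      (J := Scheme.fpqcTopology) _).isSheafFor (Presieve.ofArrows W z)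
      (Precoverage.generate_mem_toGrothendieck (J := Scheme.fpqcPrecoverage) (R := Presieve.ofArrows W z) hz)
  exact (Presieve.isSheafFor_arrows_iff _ _).mp h φ fun i j T a b e ↦ compat i j T a b e

theorem hom_ext (hz : IsCover z) {Z : Scheme.{u}} {a b : Y ⟶ Z}
    (h : ∀ k, z k ≫ a = z k ≫ b) : a = b := by
  obtain ⟨t, -, ht⟩ := existsUnique_glue hz (fun k ↦ z k ≫ a)
    (fun k k' T x y e ↦ by rw [← Category.assoc, e, Category.assoc])
  exact (ht a fun k ↦ rfl).trans (ht b fun k ↦ (h k).symm).symm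

theorem isCover_of_isPullback (hz : IsCover z) {T : Scheme.{u}} {g : T ⟶ Y} {P : κ → Scheme.{u}}
    {p₁ : ∀ k, P k ⟶ T} {p₂ : ∀ k, P k ⟶ W k} (h : ∀ k, IsPullback (p₁ k) (p₂ k) g (z k)) :
    IsCover p₁ :=
  Precoverage.mem_coverings_of_isPullback z hz g p₁ p₂ h

theorem isCover_pullback (hz : IsCover z) {T : Scheme.{u}} (g : T ⟶ Y) :
    IsCover (fun k ↦ pullback.fst g (z k)) :=
  isCover_of_isPullback hz fun k ↦ IsPullback.of_hasPullback g (z k)

theorem isCover_singleton {X : Scheme.{u}} (p : X ⟶ Y) [Flat p] [Surjective p] [QuasiCompact p] :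
    IsCover (fun _ : PUnit.{w + 1} ↦ p) := by
  rw [IsCover, Presieve.ofArrows_pUnit]
  exact Scheme.Hom.singleton_mem_fpqcPrecoverage p

theorem isCover_of_openCover (hz : ∀ k, IsOpenImmersion (z k))
    (hs : ∀ y : Y, ∃ k, y ∈ Set.range (z k)) : IsCover z :=
  Scheme.zariskiPrecoverage_le_fpqcPrecoverage _
    ((Scheme.ofArrows_mem_precoverage_iff (P := @IsOpenImmersion)).mpr ⟨hs, hz⟩)

theorem flat_of_isCover (hz : IsCover z) (k : κ) : Flat (z k) :=
  ((Scheme.ofArrows_mem_precoverage_iff (P := @Flat)).mp (Scheme.propQCPrecoverage_le_precoverage (P := @Flat) _ hz)).2 k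

theorem exists_mem_range (hz : IsCover z) (y : Y) : ∃ k, y ∈ Set.range (z k) :=
  ((Scheme.ofArrows_mem_precoverage_iff (P := @Flat)).mp (Scheme.propQCPrecoverage_le_precoverage (P := @Flat) _ hz)).1 y

theorem quasiCompactCover (hz : IsCover z) : QuasiCompactCover (PreZeroHypercover.mk κ W z) :=
  (Scheme.presieve₀_mem_qcPrecoverage_iff (E := PreZeroHypercover.mk κ W z)).mp hz.1

/-- An affine open is covered by finitely many affine opens of the members. -/
theorem exists_finite (hz : IsCover z) {U : Y.Opens} (hU : IsAffineOpen U) :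
    ∃ (n : ℕ) (f : Fin n → κ) (V : ∀ m, (W (f m)).Opens),
      (∀ m, IsAffineOpen (V m)) ∧ ⋃ m, z (f m) '' (V m) = U :=
  have := quasiCompactCover hz
  QuasiCompactCover.exists_isAffineOpen_of_isCompact (PreZeroHypercover.mk κ W z) hU.isCompact

theorem isOpen_of_preimage (hz : IsCover z) {s : Set Y} (h : ∀ k, IsOpen (z k ⁻¹' s)) : IsOpen s := by
  refine isOpen_iff_forall_mem_open.mpr fun y hy ↦ ?_
  obtain ⟨U, hU, hyU⟩ : ∃ U : Y.Opens, IsAffineOpen U ∧ y ∈ U := by
    obtain ⟨_, ⟨U, hU, rfl⟩, hyU, -⟩ :=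
      Y.isBasis_affineOpens.exists_subset_of_mem_open (Set.mem_univ y) isOpen_univ
    exact ⟨U, hU, hyU⟩
  obtain ⟨n, f, V, hV, hVU⟩ := exists_finite hz hU
  have hle : ∀ m, Set.range ((V m).ι ≫ z (f m)) ⊆ Set.range U.ι := by
    intro m
    rw [Scheme.Opens.range_ι, ← hVU]
    rintro _ ⟨v, rfl⟩
    exact Set.mem_iUnion.mpr ⟨m, v.1, v.2, rfl⟩
  let l : ∀ m, ((V m : (W (f m)).Opens) : Scheme) ⟶ U := fun m ↦
    IsOpenImmersion.lift U.ι ((V m).ι ≫ z (f m)) (hle m)
  have hflat : ∀ m, Flat (l m) := fun m ↦ by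
    have := flat_of_isCover hz (f m)
    have : Flat (l m ≫ U.ι) := by
      rw [IsOpenImmersion.lift_fac]; infer_instance
    exact MorphismProperty.of_postcomp @Flat (W' := @IsOpenImmersion) (l m) U.ι inferInstance this
  have : ∀ m, IsAffine (V m) := fun m ↦ hV m
  have : IsAffine U := hU
  let g := Sigma.desc l
  have : Flat g := IsZariskiLocalAtSource.sigmaDesc hflat
  have : Surjective g := by
    refine Surjective.sigmaDesc_of_union_range_eq_univ ?_
    ext u
    simp only [Set.mem_iUnion, Set.mem_univ, iff_true]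
    have hu : U.ι u ∈ ⋃ m, z (f m) '' (V m) := by rw [hVU]; exact u.2
    obtain ⟨m, v, hv, hvu⟩ := Set.mem_iUnion.mp hu
    refine ⟨m, ⟨v, hv⟩, U.ι.isOpenEmbedding.injective ?_⟩
    rw [← hvu, ← Scheme.Hom.comp_apply, IsOpenImmersion.lift_fac]
    rfl
  have : IsAffine (∐ fun m ↦ ((V m : (W (f m)).Opens) : Scheme)) := inferInstance
  have : QuasiCompact g := inferInstance
  have hpre : IsOpen (g ⁻¹' (U.ι ⁻¹' s)) := by
    rw [(sigmaOpenCover _).isOpenCover_opensRange.isOpen_iff_inter]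
    intro m
    rw [Scheme.Hom.coe_opensRange, ← Set.image_preimage_eq_inter_range]
    refine (sigmaOpenCover _).f m |>.isOpenEmbedding.isOpenMap _ ?_
    rw [← Set.preimage_comp, ← Set.preimage_comp]
    have e : (U.ι ∘ g) ∘ (sigmaOpenCover _).f m = (z (f m)) ∘ (V m).ι := by
      funext v
      show U.ι (g (Sigma.ι (fun m ↦ ((V m : (W (f m)).Opens) : Scheme)) m v)) = z (f m) ((V m).ι v)
      rw [← Scheme.Hom.comp_apply, ← Scheme.Hom.comp_apply, ← Scheme.Hom.comp_apply, Sigma.ι_desc_assoc,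
        IsOpenImmersion.lift_fac]
    rw [← Function.comp_assoc, e]
    exact (h (f m)).preimage (V m).ι.continuous
  have hs : IsOpen (U.ι ⁻¹' s) := (Flat.isQuotientMap_of_surjective g).isOpen_preimage.mp hpre
  refine ⟨U.ι '' (U.ι ⁻¹' s), Set.image_preimage_subset _ _, U.ι.isOpenEmbedding.isOpenMap _ hs,
    ⟨y, hyU⟩, hy, rfl⟩

end Groth.Agent.SchDescent
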