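import Groth.Agent.SchDescent.Orbit
import Groth.Agent.SchDescent.Cover
import Groth.Agent.AlgSpLoc.AffineCoeq
import Mathlib.AlgebraicGeometry.Morphisms.SchemeTheoreticallyDominant

/-!
# Descent of stable opens contained in quasi-affine opens
-/

set_option autoImplicit false
set_option backward.isDefEq.respectTransparency false
set_option backward.isDefEq.respectTransparency.types false

universe u

open CategoryTheory CategoryTheory.Limits AlgebraicGeometry Desc

namespace Groth.Agent.SchDescent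

variable {X S : Scheme.{u}} {p : X ⟶ S} [IsAffine X] [IsAffine S] [Flat p] [Surjective p]

set_option maxHeartbeats 1000000 in
/-- A stable open of a descent datum lying in quasi-affine opens is effective. -/
theorem exists_effective_piece (D : SchDD p) {O U₁ U₂ : D.obj.left.Opens}
    (hU₁ : IsCompact (U₁ : Set D.obj.left)) [Scheme.IsQuasiAffine (U₂ : Scheme.{u})]
    (h₂ : ∀ a b, a ∈ U₁ → Orb D a b → b ∈ U₂) (hO₁ : O ≤ U₁)
    (hO : ∀ a b, a ∈ O → Orb D a b → b ∈ O) :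
    ∃ (U : Over S) (a : (toDD p).obj U ⟶ D), IsOpenImmersion a.hom.left ∧
      Set.range a.hom.left = O := by
  classical
  have hle : U₁ ≤ U₂ := fun v hv ↦ h₂ v v hv ⟨pullback.lift (𝟙 _) D.obj.hom
    (Category.id_comp _) v, by rw [← Scheme.Hom.comp_apply, pullback.lift_fst]; rfl,
    by rw [← Scheme.Hom.comp_apply, lift_tgt, trans_self D _ (Category.id_comp _)]; rfl⟩
  let i₁₂ : U₁.toScheme ⟶ U₂.toScheme := D.obj.left.homOfLE hle
  let iO : O.toScheme ⟶ U₁.toScheme := D.obj.left.homOfLE hO₁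
  haveI : CompactSpace U₁.toScheme := isCompact_iff_compactSpace.mp hU₁
  haveI : QuasiSeparatedSpace U₁.toScheme :=
    QuasiSeparatedSpace.of_isOpenEmbedding i₁₂.isOpenEmbedding
  -- an affine cover of the first open
  let 𝒰 := U₁.toScheme.affineCover.finiteSubcover
  haveI : ∀ k, IsAffine (𝒰.X k) := fun k ↦ inferInstanceAs (IsAffine (U₁.toScheme.affineCover.X _))
  let E : Scheme.{u} := ∐ 𝒰.X
  haveI : IsAffine E := inferInstanceAs (IsAffine (∐ 𝒰.X))
  let ε₁ : E ⟶ U₁.toScheme := Sigma.desc 𝒰.f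
  haveI : Flat ε₁ := IsZariskiLocalAtSource.sigmaDesc fun k ↦ inferInstance
  haveI : Surjective ε₁ := by
    refine Surjective.sigmaDesc_of_union_range_eq_univ ?_
    ext y
    simp only [Set.mem_iUnion, Set.mem_univ, iff_true]
    exact ⟨_, 𝒰.covers y⟩
  haveI : QuasiCompact ε₁ := inferInstance
  have hε : IsCover (fun _ : PUnit.{1} ↦ ε₁) := isCover_singleton ε₁
  let ε : E ⟶ D.obj.left := ε₁ ≫ U₁.ι
  let u : E ⟶ S := ε ≫ toBase D
  have hεr : Set.range ε ⊆ U₁ := by
    rintro _ ⟨e, rfl⟩; exact (ε₁ e).2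
  -- transport
  let tX : pullback p u ⟶ D.obj.left := trans D (pullback.snd p u ≫ ε) (pullback.fst p u)
    (by rw [Category.assoc]; exact pullback.condition.symm)
  have htX : Set.range tX ⊆ Set.range U₂.ι := by
    rw [Scheme.Opens.range_ι]
    refine range_trans_subset D _ (s := (U₁ : Set D.obj.left)) ?_ h₂
    rintro _ ⟨e, rfl⟩
    exact hεr ⟨_, rfl⟩
  let t₂ : pullback p u ⟶ U₂.toScheme := IsOpenImmersion.lift U₂.ι tX htX
  have ht₂ : t₂ ≫ U₂.ι = tX := IsOpenImmersion.lift_fac _ _ _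
  let ε₂ : E ⟶ U₂.toScheme := ε₁ ≫ i₁₂
  have hε₂ : ε₂ ≫ U₂.ι = ε := by simp [ε₂, ε, i₁₂]
  haveI : IsAffineHom ε₂ := by
    haveI : IsAffineHom (ε₂ ≫ U₂.toScheme.toSpecΓ) := inferInstance
    exact IsAffineHom.of_comp ε₂ U₂.toScheme.toSpecΓ
  let R : Scheme.{u} := pullback t₂ ε₂
  haveI : IsAffine R := inferInstanceAs (IsAffine (pullback t₂ ε₂))
  obtain ⟨r₁, hr₁⟩ : ∃ r : R ⟶ E, r = pullback.fst t₂ ε₂ ≫ pullback.snd p u := ⟨_, rfl⟩
  obtain ⟨r₂, hr₂⟩ : ∃ r : R ⟶ E, r = pullback.snd t₂ ε₂ := ⟨_, rfl⟩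
  have hR : r₂ ≫ ε = pullback.fst t₂ ε₂ ≫ tX := by
    rw [hr₂]
    rw [← hε₂, ← ht₂, ← Category.assoc, ← Category.assoc]
    exact congrArg (· ≫ U₂.ι) pullback.condition.symm
  have hru : r₁ ≫ u = r₂ ≫ u := by
    show _ = r₂ ≫ ε ≫ toBase D
    rw [reassoc_of% hR, show tX ≫ toBase D = _ from trans_base D _]
    rw [hr₁, Category.assoc, pullback.condition]
  obtain ⟨B, hB, b, π, hπb, hπr, hstab⟩ := Groth.Agent.AlgSpLoc.exists_stable_coequalizer u r₁ r₂ hru
  -- invariance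
  have inv₀ : ∀ {T : Scheme.{u}} (a c : T ⟶ E) (h : (a ≫ ε) ≫ toBase D = (c ≫ ε ≫ D.obj.hom) ≫ p),
      trans D (a ≫ ε) (c ≫ ε ≫ D.obj.hom) h = c ≫ ε → a ≫ π = c ≫ π := by
    intro T a c h e
    let l : T ⟶ pullback p u := pullback.lift (c ≫ ε ≫ D.obj.hom) a (by
      rw [← h]; exact Category.assoc _ _ _)
    have hl : l ≫ tX = c ≫ ε := by
      rw [← e]
      refine (trans_natural D _ l (pullback.lift_fst _ _ _) ?_).trans
        (trans_congr D _ (by rw [pullback.lift_snd_assoc]) rfl)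
      rw [pullback.lift_snd_assoc]; exact h
    have hl₂ : l ≫ t₂ = c ≫ ε₂ := by
      rw [← cancel_mono U₂.ι, Category.assoc, ht₂, hl, Category.assoc, hε₂]
    have := congrArg (pullback.lift l c hl₂ ≫ ·) hπr
    simpa [hr₁, hr₂, l] using this
  obtain ⟨π₁, hπ₁, -⟩ := existsUnique_glue hε (fun _ ↦ π) (fun _ _ T a c e ↦ by
    have e' : a ≫ ε = c ≫ ε := by rw [← Category.assoc, e, Category.assoc]
    refine inv₀ a c (by rw [e']; simp only [Category.assoc]) ?_
    exact (trans_self D (a ≫ ε) ((congrArg (· ≫ D.obj.hom) e').trans (Category.assoc _ _ _))).trans e')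
  have hπ₁' : ε₁ ≫ π₁ = π := hπ₁ ⟨⟩
  have hπ₁b : π₁ ≫ b = U₁.ι ≫ toBase D := hom_ext hε fun _ ↦ by
    rw [← Category.assoc, hπ₁', hπb]
    exact Category.assoc _ _ _
  have inv₁ : ∀ {T : Scheme.{u}} (a c : T ⟶ U₁.toScheme)
      (h : (a ≫ U₁.ι) ≫ toBase D = (c ≫ U₁.ι ≫ D.obj.hom) ≫ p),
      trans D (a ≫ U₁.ι) (c ≫ U₁.ι ≫ D.obj.hom) h = c ≫ U₁.ι → a ≫ π₁ = c ≫ π₁ := by
    intro T a c h e
    refine hom_ext (isCover_pullback hε a) fun _ ↦ ?_
    refine hom_ext (isCover_pullback hε (pullback.fst a ε₁ ≫ c)) fun _ ↦ ?_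
    set q := pullback.fst a ε₁
    set q' := pullback.fst (q ≫ c) ε₁
    set e₁ := q' ≫ pullback.snd a ε₁
    set e₂ := pullback.snd (q ≫ c) ε₁
    have he₁ : q' ≫ q ≫ a = e₁ ≫ ε₁ := by
      rw [Category.assoc]; exact congrArg (q' ≫ ·) pullback.condition
    have he₂ : q' ≫ q ≫ c = e₂ ≫ ε₁ := pullback.condition
    have k₁ : e₁ ≫ ε = (q' ≫ q) ≫ a ≫ U₁.ι := by
      simp only [ε, Category.assoc, ← reassoc_of% he₁]
    have k₂ : e₂ ≫ ε = (q' ≫ q) ≫ c ≫ U₁.ι := by
      simp only [ε, Category.assoc, ← reassoc_of% he₂]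
    have h' : (e₁ ≫ ε) ≫ toBase D = (e₂ ≫ ε ≫ D.obj.hom) ≫ p := by
      rw [k₁, reassoc_of% k₂]
      simpa only [Category.assoc] using congrArg ((q' ≫ q) ≫ ·) h
    rw [reassoc_of% he₁, reassoc_of% he₂, hπ₁']
    refine inv₀ e₁ e₂ h' ?_
    rw [k₂]
    conv_rhs => rw [← e]
    rw [trans_natural D h (q' ≫ q) rfl (by simpa only [Category.assoc] using congrArg ((q' ≫ q) ≫ ·) h)]
    exact trans_congr D _ k₁ (by rw [reassoc_of% k₂, Category.assoc])
  -- base change
  haveI : IsAffineHom b := inferInstance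
  let H : Scheme.{u} := pullback p b
  haveI : IsAffine H := inferInstanceAs (IsAffine (pullback p b))
  let π' : pullback p u ⟶ H := pullback.lift (pullback.fst p u) (pullback.snd p u ≫ π)
    (by rw [Category.assoc, hπb]; exact pullback.condition)
  let r₁' : pullback p (r₁ ≫ u) ⟶ pullback p u := pullback.lift (pullback.fst _ _)
    (pullback.snd _ _ ≫ r₁) (by rw [Category.assoc]; exact pullback.condition)
  let r₂' : pullback p (r₁ ≫ u) ⟶ pullback p u := pullback.lift (pullback.fst _ _)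
    (pullback.snd _ _ ≫ r₂) (pullback.condition.trans ((congrArg (pullback.snd p (r₁ ≫ u) ≫ ·) hru).trans (Category.assoc _ _ _).symm))
  have coeq : ∀ {Q : Scheme.{u}} [IsAffine Q] (h : pullback p u ⟶ Q), r₁' ≫ h = r₂' ≫ h →
      ∃! k : H ⟶ Q, π' ≫ k = h := fun {Q} _ h hh ↦
    hstab p inferInstance _ _ (IsPullback.of_hasPullback p b) _ _ (IsPullback.of_hasPullback p u) _ _
      (IsPullback.of_hasPullback p (r₁ ≫ u)) π' r₁' r₂' (pullback.lift_fst _ _ _)
      (pullback.lift_snd _ _ _) (pullback.lift_fst _ _ _) (pullback.lift_snd _ _ _)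
      (pullback.lift_fst _ _ _) (pullback.lift_snd _ _ _) h hh
  have hr' : r₁' ≫ π' = r₂' ≫ π' := by
    apply pullback.hom_ext
    · simp [r₁', r₂', π']
    · simp [r₁', r₂', π', hπr]
  haveI : IsAffineHom π' := inferInstance
  haveI : IsSchemeTheoreticallyDominant π' := by
    haveI : IsAffine π'.image := isAffine_of_isAffineHom π'.imageι
    obtain ⟨l, hl, -⟩ := coeq π'.toImage (by
      rw [← cancel_mono π'.imageι, Category.assoc, Category.assoc, Scheme.Hom.toImage_imageι, hr'])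
    have h1 : l ≫ π'.imageι = 𝟙 H := (coeq π' hr').unique
      (by rw [reassoc_of% hl, Scheme.Hom.toImage_imageι]) (Category.comp_id _)
    have : IsIso π'.imageι := ⟨l, by rw [← cancel_mono π'.imageι, Category.assoc, h1]; simp, h1⟩
    refine ⟨?_⟩
    rw [← Scheme.IdealSheafData.ker_subschemeι π'.ker]
    exact IsSchemeTheoreticallyDominant.ker_eq_bot π'.imageι
  -- the inverse map
  have htX' : ∀ {T : Scheme.{u}} (g : T ⟶ pullback p u)
      (h : (g ≫ pullback.snd p u ≫ ε) ≫ toBase D = (g ≫ pullback.fst p u) ≫ p),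
      g ≫ tX = trans D (g ≫ pullback.snd p u ≫ ε) (g ≫ pullback.fst p u) h :=
    fun g h ↦ trans_natural D _ g rfl h
  have hhr : r₁' ≫ t₂ = r₂' ≫ t₂ := by
    rw [← cancel_mono U₂.ι, Category.assoc, Category.assoc, ht₂]
    have c₁ : (r₁' ≫ pullback.snd p u ≫ ε) ≫ toBase D = (r₁' ≫ pullback.fst p u) ≫ p := by
      simp only [Category.assoc]
      exact congrArg (r₁' ≫ ·) pullback.condition.symm
    have c₂ : (r₂' ≫ pullback.snd p u ≫ ε) ≫ toBase D = (r₂' ≫ pullback.fst p u) ≫ p := by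
      simp only [Category.assoc]
      exact congrArg (r₂' ≫ ·) pullback.condition.symm
    rw [htX' r₁' c₁, htX' r₂' c₂]
    let g := pullback.snd p (r₁ ≫ u) ≫ pullback.fst t₂ ε₂
    have c₃ : (g ≫ pullback.snd p u ≫ ε) ≫ toBase D = (g ≫ pullback.fst p u) ≫ p := by
      simp only [Category.assoc]
      exact congrArg (g ≫ ·) pullback.condition.symm
    have e₁ : r₁' ≫ pullback.snd p u ≫ ε = g ≫ pullback.snd p u ≫ ε := by
      simp [r₁', hr₁, g]
    have e₂ : r₂' ≫ pullback.snd p u ≫ ε = trans D _ _ c₃ := by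
      rw [← htX' g c₃]
      simp [r₂', g, hR]
    rw [trans_congr D c₂ e₂ rfl, trans_trans]
    exact trans_congr D _ e₁ (by simp [r₁', r₂'])
  obtain ⟨k, hk, -⟩ := coeq (t₂ ≫ U₂.toScheme.toSpecΓ) (by rw [reassoc_of% hhr])
  -- the comparison
  let m : O.toScheme ⟶ H := pullback.lift (O.ι ≫ D.obj.hom) (iO ≫ π₁) (by
    rw [Category.assoc, Category.assoc, hπ₁b]
    simp [iO])
  let j : O.toScheme ⟶ Spec Γ(U₂.toScheme, ⊤) := iO ≫ i₁₂ ≫ U₂.toScheme.toSpecΓ
  haveI : IsOpenImmersion j := inferInstance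
  have hmk : m ≫ k = j := hom_ext (isCover_pullback hε iO) fun _ ↦ by
    set q := pullback.fst iO ε₁
    set e := pullback.snd iO ε₁
    have hqe : q ≫ iO = e ≫ ε₁ := pullback.condition
    have hqι : q ≫ O.ι = e ≫ ε := by simp [ε, ← reassoc_of% hqe, iO]
    let l : pullback iO ε₁ ⟶ pullback p u := pullback.lift (q ≫ O.ι ≫ D.obj.hom) e (by
      rw [← Category.assoc q, hqι]; simp [u])
    have hl : q ≫ m = l ≫ π' := by
      apply pullback.hom_ext
      · simp [m, l, π']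
      · simp [m, l, π', reassoc_of% hqe, hπ₁']
    rw [reassoc_of% hl, hk]
    have hl2 : l ≫ t₂ = e ≫ ε₂ := by
      rw [← cancel_mono U₂.ι, Category.assoc, ht₂, Category.assoc, hε₂,
        htX' l (by simp only [Category.assoc]; exact congrArg (l ≫ ·) pullback.condition.symm)]
      refine (trans_congr D _ (by simp [l]) (by simp [l, reassoc_of% hqι])).trans
        (trans_self D (e ≫ ε) (Category.assoc _ _ _))
    rw [reassoc_of% hl2]
    simp [j, ε₂, reassoc_of% hqe]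
  let H₀ : H.Opens := k ⁻¹ᵁ j.opensRange
  let k₀ : H₀.toScheme ⟶ O.toScheme := IsOpenImmersion.lift j (H₀.ι ≫ k) (by
    rintro _ ⟨z, rfl⟩; exact z.2)
  have hk₀ : k₀ ≫ j = H₀.ι ≫ k := IsOpenImmersion.lift_fac _ _ _
  have hmr : Set.range m ⊆ Set.range H₀.ι := by
    rw [Scheme.Opens.range_ι]
    rintro _ ⟨o, rfl⟩
    exact ⟨o, by rw [← hmk]; rfl⟩
  let m₀ : O.toScheme ⟶ H₀.toScheme := IsOpenImmersion.lift H₀.ι m hmr
  have hm₀ : m₀ ≫ H₀.ι = m := IsOpenImmersion.lift_fac _ _ _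
  have hk₀m : k₀ ≫ m = H₀.ι := by
    let q := (π' ⁻¹ᵁ H₀).ι
    let a := (π' ∣_ H₀) ≫ k₀
    have hq : (π' ∣_ H₀) ≫ H₀.ι = q ≫ π' := morphismRestrict_ι π' H₀
    have haι : a ≫ O.ι = q ≫ tX := by
      have : (a ≫ iO ≫ i₁₂) ≫ U₂.toScheme.toSpecΓ = (q ≫ t₂) ≫ U₂.toScheme.toSpecΓ := by
        have := congrArg ((π' ∣_ H₀) ≫ ·) hk₀
        simp only [reassoc_of% hq, hk] at this
        simpa [a, j] using this
      rw [cancel_mono] at this
      rw [← ht₂, ← reassoc_of% this]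
      simp [iO, i₁₂]
    have cq : (q ≫ pullback.snd p u ≫ ε) ≫ toBase D = (q ≫ pullback.fst p u) ≫ p := by
      simp only [Category.assoc]
      exact congrArg (q ≫ ·) pullback.condition.symm
    have haπ₀ : a ≫ O.ι ≫ D.obj.hom = q ≫ pullback.fst p u := by
      rw [reassoc_of% haι]; simp [tX, trans_hom]
    have ha : a ≫ m = q ≫ π' := by
      apply pullback.hom_ext
      · simpa [m, π'] using haπ₀
      · simp only [m, π', Category.assoc, pullback.lift_snd]
        refine Eq.trans ?_ (congrArg (fun g ↦ q ≫ pullback.snd p u ≫ g) hπ₁')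
        refine (Category.assoc _ _ _).symm.trans (Eq.trans (?_ : (a ≫ iO) ≫ π₁ =
          (q ≫ pullback.snd p u ≫ ε₁) ≫ π₁) ((Category.assoc _ _ _).trans (congrArg (q ≫ ·) (Category.assoc _ _ _))))
        refine (inv₁ (q ≫ pullback.snd p u ≫ ε₁) (a ≫ iO) ?_ ?_).symm
        · simp only [iO, Category.assoc, Scheme.homOfLE_ι_assoc]
          rw [reassoc_of% haπ₀]
          exact congrArg (q ≫ ·) pullback.condition.symm
        · refine (trans_congr D _ (w' := q ≫ pullback.snd p u ≫ ε) (x' := q ≫ pullback.fst p u)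
            (by simp [ε]) (by simpa [iO] using haπ₀)).trans ?_
          rw [← htX' q cq, ← haι]
          simp [iO]
    haveI : IsSchemeTheoreticallyDominant (π' ∣_ H₀) :=
      IsSchemeTheoreticallyDominant.of_isPullback (isPullback_morphismRestrict π' H₀).flip
    have e : (π' ∣_ H₀) ≫ k₀ ≫ m = (π' ∣_ H₀) ≫ H₀.ι := by rw [← Category.assoc, hq]; exact ha
    apply ext_of_isAffine
    have e' := congrArg Scheme.Hom.appTop e
    rw [Scheme.Hom.comp_appTop, Scheme.Hom.comp_appTop (π' ∣_ H₀) H₀.ι] at e'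
    ext z
    exact (π' ∣_ H₀).app_injective ⊤ (congrArg (fun φ ↦ φ.hom z) e')
  haveI : IsIso m₀ := ⟨k₀, by
      rw [← cancel_mono j, Category.assoc, hk₀, reassoc_of% hm₀, hmk, Category.id_comp], by
      rw [← cancel_mono H₀.ι, Category.assoc, hm₀, hk₀m, Category.id_comp]⟩
  haveI : IsOpenImmersion m := by rw [← hm₀]; infer_instance
  -- the quotient
  have hstab₁ : ∀ {T : Scheme.{u}} (o : T ⟶ O.toScheme) (x : T ⟶ X)
      (h : (o ≫ O.ι) ≫ toBase D = x ≫ p), ∃ o' : T ⟶ O.toScheme,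
        o' ≫ O.ι = trans D (o ≫ O.ι) x h ∧ o' ≫ iO ≫ π₁ = o ≫ iO ≫ π₁ := by
    intro T o x h
    have hr : Set.range (trans D (o ≫ O.ι) x h) ⊆ Set.range O.ι := by
      rw [Scheme.Opens.range_ι]
      refine range_trans_subset D _ (s := (O : Set D.obj.left)) ?_ hO
      rintro _ ⟨y, rfl⟩
      exact (o y).2
    let o' := IsOpenImmersion.lift O.ι _ hr
    have ho' : o' ≫ O.ι = trans D (o ≫ O.ι) x h := IsOpenImmersion.lift_fac _ _ _
    refine ⟨o', ho', ?_⟩
    rw [← Category.assoc, ← Category.assoc o]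
    have hx : (o' ≫ iO) ≫ U₁.ι ≫ D.obj.hom = x := by simp [iO, reassoc_of% ho', trans_hom]
    refine (inv₁ (o ≫ iO) (o' ≫ iO) (by rw [hx]; simpa [iO] using h) ?_).symm
    rw [trans_congr D _ (show (o ≫ iO) ≫ U₁.ι = o ≫ O.ι by simp [iO]) hx, ← ho']
    simp [iO]
  let πO : O.toScheme ⟶ B := iO ≫ π₁
  have hGpre : ∀ z : ↥H, pullback.snd p b z ∈ Set.range πO → z ∈ Set.range m := by
    rintro z ⟨o, ho⟩
    obtain ⟨η, hη, hη'⟩ := Scheme.Pullback.exists_preimage_pullback
      (f := pullback.snd p b) (g := πO) z o ho.symm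
    let a := pullback.fst (pullback.snd p b) πO
    let o₀ := pullback.snd (pullback.snd p b) πO
    have h : (o₀ ≫ O.ι) ≫ toBase D = (a ≫ pullback.fst p b) ≫ p := by
      rw [Category.assoc a, pullback.condition, ← Category.assoc a, pullback.condition]
      show _ = (o₀ ≫ iO ≫ π₁) ≫ b
      simp [hπ₁b, iO]
    obtain ⟨o', ho', ho''⟩ := hstab₁ o₀ _ h
    have : o' ≫ m = a := by
      apply pullback.hom_ext
      · simp [m, reassoc_of% ho', trans_hom]
      · simp only [m, Category.assoc, pullback.lift_snd, ho'']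
        exact pullback.condition.symm
    exact ⟨o' η, by rw [← Scheme.Hom.comp_apply, this]; exact hη⟩
  have hpre : pullback.snd p b ⁻¹' Set.range πO = Set.range m := by
    refine Set.Subset.antisymm hGpre ?_
    rintro _ ⟨o, rfl⟩
    exact ⟨o, by rw [← Scheme.Hom.comp_apply, pullback.lift_snd]⟩
  have hG : IsOpen (Set.range πO) := by
    refine isOpen_of_preimage (isCover_singleton.{0} (pullback.snd p b)) fun _ ↦ ?_
    rw [hpre]
    exact m.isOpenEmbedding.isOpen_range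
  let G : B.Opens := ⟨Set.range πO, hG⟩
  let U : Over S := Over.mk (G.ι ≫ b)
  let μ : pullback p U.hom ⟶ H := pullback.lift (pullback.fst _ _) (pullback.snd _ _ ≫ G.ι)
    (by rw [Category.assoc]; exact pullback.condition)
  have hμ : IsPullback μ (pullback.snd p U.hom) (pullback.snd p b) G.ι := by
    refine IsPullback.of_right ?_ (pullback.lift_snd _ _ _) (IsPullback.of_hasPullback p b)
    rw [show μ ≫ pullback.fst p b = _ from pullback.lift_fst _ _ _]
    exact IsPullback.of_hasPullback p U.hom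
  haveI : IsOpenImmersion μ := MorphismProperty.of_isPullback (P := @IsOpenImmersion) hμ.flip inferInstance
  have hμr : Set.range μ = Set.range m := by
    rw [← hpre]
    refine Set.Subset.antisymm ?_ fun z hz ↦ ?_
    · rintro _ ⟨y, rfl⟩
      show pullback.snd p b (μ y) ∈ G
      rw [← Scheme.Hom.comp_apply, hμ.w]
      exact (pullback.snd p U.hom y).2
    · obtain ⟨y, hy, -⟩ := Scheme.exists_preimage_of_isPullback hμ z ⟨_, hz⟩ rfl
      exact ⟨y, hy⟩
  let c := IsOpenImmersion.isoOfRangeEq μ m hμr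
  have hc : c.hom ≫ m = μ := IsOpenImmersion.isoOfRangeEq_hom_fac _ _ _
  have hcX : (c.hom ≫ O.ι) ≫ D.obj.hom = pullback.fst p U.hom := by
    have := congrArg (· ≫ pullback.fst p b) hc
    simpa [m, μ] using this
  let A : (toDD p).obj U ⟶ D := ⟨Over.homMk (c.hom ≫ O.ι) hcX, by
    intro T x₀ x₁ h v w hw
    have hw' : w.1 = (v.1 ≫ c.hom) ≫ O.ι := hw.trans (Category.assoc _ _ _).symm
    have hb : ((v.1 ≫ c.hom) ≫ O.ι) ≫ toBase D = x₁ ≫ p := by
      rw [← hw']; exact (Category.assoc _ _ _).symm.trans ((congrArg (· ≫ p) w.2).trans h)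
    obtain ⟨o', ho', ho''⟩ := hstab₁ (v.1 ≫ c.hom) x₁ hb
    show (D.φ x₀ x₁ h w).1 = (((toDD p).obj U).φ x₀ x₁ h v).1 ≫ c.hom ≫ O.ι
    rw [φ_eq_trans, trans_congr D _ hw' rfl, ← ho', ← Category.assoc]
    refine congrArg (· ≫ O.ι) ?_
    rw [← cancel_mono m, Category.assoc, hc]
    apply pullback.hom_ext
    · simp [m, μ, toDD, canonicalDD, reassoc_of% ho', trans_hom]
    · have hc2 : c.hom ≫ iO ≫ π₁ = pullback.snd p U.hom ≫ G.ι := by
        have := congrArg (· ≫ pullback.snd p b) hc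
        simpa [m, μ] using this
      simp only [m, μ, Category.assoc, pullback.lift_snd, ho'']
      simp [toDD, canonicalDD, hc2]⟩
  refine ⟨U, A, inferInstanceAs (IsOpenImmersion (c.hom ≫ O.ι)), ?_⟩
  show Set.range (c.hom ≫ O.ι) = _
  rw [Scheme.Hom.comp_base, TopCat.coe_comp, Set.range_comp, Set.range_eq_univ.mpr c.hom.surjective,
    Set.image_univ, Scheme.Opens.range_ι]

end Groth.Agent.SchDescent
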