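import Groth.Agent.SchDescent.Coprod
import Groth.Agent.SchDescent.One
import Groth.Agent.SchDescent.Piece
import Groth.Prelude.Def_MoreMor

/-!
# Effectivity of descent for ind-quasi-affine morphisms
-/

set_option autoImplicit false
set_option backward.isDefEq.respectTransparency false
set_option backward.isDefEq.respectTransparency.types false

universe w u

open CategoryTheory CategoryTheory.Limits AlgebraicGeometry Desc

namespace Groth.Agent.SchDescent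

/-- Reduction to one flat surjective morphism of affine schemes. -/
theorem isEffective_of_affine_case (P P' : MorphismProperty Scheme.{u})
    (hres : ∀ {V X X' : Scheme.{u}} (q : V ⟶ X) (j : X' ⟶ X), IsOpenImmersion j → P q →
      P (pullback.snd q j))
    (h2 : ∀ (m : ℕ) (Y V : Fin m → Scheme.{u}) (q : ∀ j, Y j ⟶ V j), (∀ j, IsAffine (V j)) →
      (∀ j, P (q j)) → P' (Limits.Sigma.map q))
    (h3 : ∀ (X S : Scheme.{u}) (p : X ⟶ S), IsAffine X → IsAffine S → Flat p → Surjective p →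
      ∀ D : SchDD p, P' D.obj.hom → ∃ U : Over S, Nonempty ((toDD p).obj U ≅ D))
    {ι : Type w} {S : Scheme.{u}} {X : ι → Scheme.{u}} {f : ∀ i, X i ⟶ S} (hf : IsCover f)
    (D : SchDDFam f) (hD : ∀ i, P (D.obj i).hom) : D.IsEffective := by
  have base : ∀ {S : Scheme.{u}} {X : ι → Scheme.{u}} {f : ∀ i, X i ⟶ S}, IsAffine S →
      IsCover f → ∀ D : SchDDFam f, (∀ i, P (D.obj i).hom) → D.IsEffective := by
    intro S X f hS hf D hD
    obtain ⟨n, idx, V, hV, hVS⟩ := exists_finite hf (isAffineOpen_top S)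
    let f'' : ∀ m : Fin n, ((V m : (X (idx m)).Opens) : Scheme.{u}) ⟶ S := fun m ↦ (V m).ι ≫ f (idx m)
    have hAff : ∀ m, IsAffine ((V m : (X (idx m)).Opens) : Scheme.{u}) := fun m ↦ hV m
    have hflat : ∀ m, Flat (f'' m) := fun m ↦ by
      have := flat_of_isCover hf (idx m)
      exact inferInstanceAs (Flat ((V m).ι ≫ f (idx m)))
    have hFl : Flat (Sigma.desc f'') := IsZariskiLocalAtSource.sigmaDesc hflat
    have hSu : Surjective (Sigma.desc f'') := by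
      refine Surjective.sigmaDesc_of_union_range_eq_univ ?_
      ext y
      simp only [Set.mem_iUnion, Set.mem_univ, iff_true]
      have hy : y ∈ ⋃ m, f (idx m) '' (V m) := by rw [hVS]; trivial
      obtain ⟨m, v, hv, rfl⟩ := Set.mem_iUnion.mp hy
      exact ⟨m, ⟨v, hv⟩, rfl⟩
    haveI : IsAffine (∐ fun m ↦ ((V m : (X (idx m)).Opens) : Scheme.{u})) := inferInstance
    haveI : QuasiCompact (Sigma.desc f'') := inferInstance
    have hc : IsCover f'' := by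
      have h := Precoverage.comp_mem_coverings (J := Scheme.fpqcPrecoverage)
        (fun _ : PUnit.{1} ↦ Sigma.desc f'') (isCover_singleton _)
        (g := fun _ m ↦ Sigma.ι (fun m ↦ ((V m : (X (idx m)).Opens) : Scheme.{u})) m)
        fun _ ↦ sigma_isCover
      rw [IsCover]
      convert h using 1
      refine le_antisymm ?_ ?_
      · rintro Y g ⟨m⟩
        refine Presieve.ofArrows.mk' ⟨⟨⟩, m⟩ rfl ?_
        simp [f'']
      · rintro Y g ⟨⟨⟨⟩, m⟩⟩
        refine Presieve.ofArrows.mk' m rfl ?_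
        simp [f'']
    have w : ∀ m, (V m).ι ≫ f (idx m) = f'' m ≫ 𝟙 S := fun m ↦ (Category.comp_id _).symm
    refine isEffective_of_pull (f' := f'') (α := idx) (p' := fun m ↦ (V m).ι) w hc D ?_
    refine isEffective_of_coprod _ (h3 _ _ _ inferInstance hS hFl hSu _ ?_)
    exact h2 n _ _ _ hAff fun m ↦ hres _ _ inferInstance (hD (idx m))
  refine isEffective_of_restrict hf D (fun U : S.affineOpens ↦ U.1.ι) (fun _ ↦ inferInstance) ?_ ?_
  · intro s
    obtain ⟨_, ⟨U, hU, rfl⟩, hs, -⟩ :=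
      S.isBasis_affineOpens.exists_subset_of_mem_open (Set.mem_univ s) isOpen_univ
    exact ⟨⟨U, hU⟩, ⟨s, hs⟩, rfl⟩
  · intro U
    refine base U.2 ?_ _ fun i ↦ hres _ _ inferInstance (hD i)
    exact isCover_of_isPullback hf (p₂ := fun i ↦ pullback.fst (f i) U.1.ι)
      fun i ↦ (IsPullback.of_hasPullback _ _).flip

/-- Descent data over affines whose quasi-compact opens are quasi-affine are effective. -/
theorem effective_of_indQuasiAffine_affine {X S : Scheme.{u}} {p : X ⟶ S} [IsAffine X] [IsAffine S]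
    [Flat p] [Surjective p] (D : SchDD p) (hV : MoreMor.IsIndQuasiAffine D.obj.left) :
    ∃ U : Over S, Nonempty ((toDD p).obj U ≅ D) := by
  haveI := quasiSeparatedSpace_of_forall hV
  have hp : ∀ v : D.obj.left, ∃ (W : Over S) (a : (toDD p).obj W ⟶ D), IsOpenImmersion a.hom.left ∧
      v ∈ Set.range a.hom.left := by
    intro v
    obtain ⟨_, ⟨U, hU, rfl⟩, hv, -⟩ :=
      D.obj.left.isBasis_affineOpens.exists_subset_of_mem_open (Set.mem_univ v) isOpen_univ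
    obtain ⟨U₁, hU₁, h₁⟩ := exists_orbit_open D U hU.isCompact
    obtain ⟨U₂, hU₂, h₂⟩ := exists_orbit_open D U₁ hU₁
    obtain ⟨O, hUO, hO₁, hO⟩ := exists_stable_open D hU₂ h₁ h₂
    haveI := hV U₂ hU₂
    obtain ⟨W, a, ha, har⟩ := exists_effective_piece D hU₁ h₂ hO₁ hO
    exact ⟨W, a, ha, har.symm ▸ hUO hv⟩
  choose W a ha hv using hp
  exact effective_of_cover D a ha fun v ↦ ⟨v, hv v⟩

/-- A finite disjoint union of ind-quasi-affine schemes is ind-quasi-affine. -/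
theorem isIndQuasiAffine_sigma {m : ℕ} {Y : Fin m → Scheme.{u}}
    (hY : ∀ j, MoreMor.IsIndQuasiAffine (Y j)) : MoreMor.IsIndQuasiAffine (∐ Y) := by
  classical
  intro U hU
  haveI hι : ∀ j, IsOpenImmersion (Sigma.ι Y j) := fun j ↦ (sigmaOpenCover Y).map_prop j
  have hc : ∀ j, IsCompact ((Sigma.ι Y j ⁻¹ᵁ U : (Y j).Opens) : Set (Y j)) := fun j ↦ by
    rw [(Sigma.ι Y j).isOpenEmbedding.isEmbedding.isCompact_iff]
    have hcl : IsClosed (Set.range (Sigma.ι Y j)) := by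
      rw [← isOpen_compl_iff]
      have : (Set.range (Sigma.ι Y j))ᶜ = ⋃ k ∈ {k | k ≠ j}, Set.range (Sigma.ι Y k) := by
        ext y
        obtain ⟨k, v, rfl⟩ := exists_mem_range (sigma_isCover (Y := Y)) y
        simp only [Set.mem_compl_iff, Set.mem_range, Set.mem_iUnion, Set.mem_setOf_eq, exists_prop]
        constructor
        · intro h
          refine ⟨k, fun e ↦ h ?_, v, rfl⟩
          subst e; exact ⟨v, rfl⟩
        · rintro ⟨k', hk', v', hv'⟩ ⟨w, hw⟩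
          have := (sigmaι_eq_iff Y k' j v' w).mp (hv'.trans hw.symm)
          exact hk' (Sigma.mk.inj this).1
      rw [this]
      exact isOpen_biUnion fun k _ ↦ (Sigma.ι Y k).isOpenEmbedding.isOpen_range
    rw [show Sigma.ι Y j '' ((Sigma.ι Y j ⁻¹ᵁ U : (Y j).Opens) : Set (Y j)) =
      (U : Set ↥(∐ Y)) ∩ Set.range (Sigma.ι Y j) from Set.image_preimage_eq_inter_range]
    exact hU.inter_right hcl
  let Uj : Fin m → Scheme.{u} := fun j ↦ (Sigma.ι Y j ⁻¹ᵁ U : (Y j).Opens).toScheme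
  haveI : ∀ j, Scheme.IsQuasiAffine (Uj j) := fun j ↦ hY j _ (hc j)
  haveI : CompactSpace U.toScheme := isCompact_iff_compactSpace.mp hU
  let φ : ∐ Uj ⟶ U.toScheme := Sigma.desc fun j ↦ Sigma.ι Y j ∣_ U
  haveI : IsIso φ := by
    haveI : IsOpenImmersion φ := by
      refine isOpenImmersion_sigmaDesc _ _ fun j k hjk ↦ ?_
      rw [Function.onFun_apply, Set.disjoint_left]
      rintro _ ⟨x, rfl⟩ ⟨y, hy⟩
      have hy' := congrArg U.ι hy
      rw [← Scheme.Hom.comp_apply, ← Scheme.Hom.comp_apply, morphismRestrict_ι, morphismRestrict_ι,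
        Scheme.Hom.comp_apply, Scheme.Hom.comp_apply] at hy'
      exact hjk (Sigma.mk.inj ((sigmaι_eq_iff Y k j _ _).mp hy')).1.symm
    refine (isIso_iff_isOpenImmersion_and_epi_base φ).mpr ⟨inferInstance,
      (TopCat.epi_iff_surjective _).mpr fun z ↦ ?_⟩
    obtain ⟨k, v, hv⟩ := exists_mem_range (sigma_isCover (Y := Y)) (U.ι z)
    have hvU : v ∈ Sigma.ι Y k ⁻¹ᵁ U := show Sigma.ι Y k v ∈ U from hv ▸ z.2
    refine ⟨Sigma.ι Uj k ⟨v, hvU⟩, U.ι.isOpenEmbedding.injective ?_⟩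
    show U.ι (φ (Sigma.ι Uj k ⟨v, hvU⟩)) = U.ι z
    rw [← Scheme.Hom.comp_apply, ← Scheme.Hom.comp_apply, Sigma.ι_desc_assoc, morphismRestrict_ι, ← hv]
    rfl
  let ψ : ∐ Uj ⟶ ∐ fun j ↦ Spec Γ(Uj j, ⊤) := Sigma.desc fun j ↦ (Uj j).toSpecΓ ≫ Sigma.ι (fun j ↦ Spec Γ(Uj j, ⊤)) j
  haveI : IsOpenImmersion ψ := by
    haveI : ∀ j, IsOpenImmersion (Sigma.ι (fun j ↦ Spec Γ(Uj j, ⊤)) j) := fun j ↦
      (sigmaOpenCover _).map_prop j
    refine isOpenImmersion_sigmaDesc _ _ fun j k hjk ↦ ?_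
    rw [Function.onFun_apply, Set.disjoint_left]
    rintro _ ⟨x, rfl⟩ ⟨y, hy⟩
    rw [Scheme.Hom.comp_apply, Scheme.Hom.comp_apply] at hy
    exact hjk (Sigma.mk.inj ((sigmaι_eq_iff (fun j ↦ Spec Γ(Uj j, ⊤)) k j _ _).mp hy)).1.symm
  exact Scheme.IsQuasiAffine.of_isImmersion (inv φ ≫ ψ)

/-- Ind-quasi-affineness is stable under restriction to opens of the target. -/
theorem isIndQuasiAffineHom_of_isOpenImmersion {V X X' : Scheme.{u}} (q : V ⟶ X) (j : X' ⟶ X)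
    [IsOpenImmersion j] (hq : MoreMor.IsIndQuasiAffineHom q) :
    MoreMor.IsIndQuasiAffineHom (pullback.snd q j) := by
  intro W hW U hU
  haveI : CompactSpace U.toScheme := isCompact_iff_compactSpace.mp hU
  let c := U.ι ≫ (pullback.snd q j ⁻¹ᵁ W).ι ≫ pullback.fst q j
  have hle : c.opensRange ≤ q ⁻¹ᵁ (j ''ᵁ W) := by
    rintro _ ⟨z, rfl⟩
    show q (c z) ∈ j ''ᵁ W
    refine ⟨pullback.snd q j ((pullback.snd q j ⁻¹ᵁ W).ι (U.ι z)), (U.ι z).2, ?_⟩
    exact congrArg (fun g : pullback q j ⟶ X ↦ g ((pullback.snd q j ⁻¹ᵁ W).ι (U.ι z)))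
      pullback.condition.symm
  let U' : (q ⁻¹ᵁ (j ''ᵁ W)).toScheme.Opens := (q ⁻¹ᵁ (j ''ᵁ W)).ι ⁻¹ᵁ c.opensRange
  have hU' : IsCompact (U' : Set (q ⁻¹ᵁ (j ''ᵁ W)).toScheme) := by
    rw [(q ⁻¹ᵁ (j ''ᵁ W)).ι.isOpenEmbedding.isEmbedding.isCompact_iff]
    rw [show (q ⁻¹ᵁ (j ''ᵁ W)).ι '' (U' : Set (q ⁻¹ᵁ (j ''ᵁ W)).toScheme) =
      (c.opensRange : Set V) ∩ Set.range (q ⁻¹ᵁ (j ''ᵁ W)).ι from
        Set.image_preimage_eq_inter_range (f := ⇑(q ⁻¹ᵁ (j ''ᵁ W)).ι) (t := (c.opensRange : Set V)),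
      Scheme.Opens.range_ι, Set.inter_eq_left.mpr hle]
    exact isCompact_range c.continuous
  haveI := hq _ (hW.image_of_isOpenImmersion j) U' hU'
  have hr : Set.range c ⊆ Set.range (U'.ι ≫ (q ⁻¹ᵁ (j ''ᵁ W)).ι) := by
    rintro _ ⟨z, rfl⟩
    have hz : c z ∈ q ⁻¹ᵁ (j ''ᵁ W) := hle ⟨z, rfl⟩
    exact ⟨⟨⟨c z, hz⟩, ⟨z, rfl⟩⟩, rfl⟩
  let l := IsOpenImmersion.lift (U'.ι ≫ (q ⁻¹ᵁ (j ''ᵁ W)).ι) c hr
  haveI : IsOpenImmersion (l ≫ U'.ι ≫ (q ⁻¹ᵁ (j ''ᵁ W)).ι) := by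
    rw [IsOpenImmersion.lift_fac]; infer_instance
  haveI : IsOpenImmersion l := IsOpenImmersion.of_comp l (U'.ι ≫ (q ⁻¹ᵁ (j ''ᵁ W)).ι)
  exact Scheme.IsQuasiAffine.of_isImmersion l

/-- The source of an ind-quasi-affine morphism to an affine scheme is ind-quasi-affine. -/
theorem isIndQuasiAffine_of_affine {Y V : Scheme.{u}} [IsAffine V] (q : Y ⟶ V)
    (hq : MoreMor.IsIndQuasiAffineHom q) : MoreMor.IsIndQuasiAffine Y := by
  intro U hU
  let T := q ⁻¹ᵁ (⊤ : V.Opens)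
  have hU' : IsCompact ((T.ι ⁻¹ᵁ U : T.toScheme.Opens) : Set T.toScheme) := by
    rw [T.ι.isOpenEmbedding.isEmbedding.isCompact_iff]
    rw [show T.ι '' ((T.ι ⁻¹ᵁ U : T.toScheme.Opens) : Set T.toScheme) =
      (U : Set Y) ∩ Set.range T.ι from Set.image_preimage_eq_inter_range,
      Scheme.Opens.range_ι, Set.inter_eq_left.mpr fun x _ ↦ (show x ∈ T from trivial)]
    exact hU
  haveI := hq ⊤ (isAffineOpen_top V) _ hU'
  haveI : CompactSpace U.toScheme := isCompact_iff_compactSpace.mp hU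
  have hr : Set.range U.ι ⊆ Set.range ((T.ι ⁻¹ᵁ U).ι ≫ T.ι) := by
    rintro _ ⟨z, rfl⟩
    exact ⟨⟨⟨U.ι z, trivial⟩, z.2⟩, rfl⟩
  let l := IsOpenImmersion.lift ((T.ι ⁻¹ᵁ U).ι ≫ T.ι) U.ι hr
  haveI : IsOpenImmersion (l ≫ (T.ι ⁻¹ᵁ U).ι ≫ T.ι) := by
    rw [IsOpenImmersion.lift_fac]; infer_instance
  haveI : IsOpenImmersion l := IsOpenImmersion.of_comp l ((T.ι ⁻¹ᵁ U).ι ≫ T.ι)
  exact Scheme.IsQuasiAffine.of_isImmersion l

/-- Descent data ind-quasi-affine over an fpqc covering are effective. -/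
theorem isEffective_of_indQuasiAffine {ι : Type w} {S : Scheme.{u}} {X : ι → Scheme.{u}}
    {f : ∀ i, X i ⟶ S} (hf : IsCover f) (D : SchDDFam f)
    (hD : ∀ i, MoreMor.IsIndQuasiAffineHom (D.obj i).hom) : D.IsEffective :=
  isEffective_of_affine_case (fun _ _ q ↦ MoreMor.IsIndQuasiAffineHom q)
    (fun Y _ _ ↦ MoreMor.IsIndQuasiAffine Y)
    (fun q j _ hq ↦ isIndQuasiAffineHom_of_isOpenImmersion q j hq)
    (fun _ _ _ q hV hq ↦ isIndQuasiAffine_sigma fun j ↦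
      haveI := hV j; isIndQuasiAffine_of_affine (q j) (hq j))
    (fun _ _ _ hX hS hF hSu D hD ↦
      haveI := hX; haveI := hS; haveI := hF; haveI := hSu; effective_of_indQuasiAffine_affine D hD) hf D hD

/-- One morphism version. -/
theorem effective_of_indQuasiAffine {X S : Scheme.{u}} {p : X ⟶ S}
    (hp : IsCover (fun _ : PUnit.{1} ↦ p)) (D : SchDD p)
    (hD : MoreMor.IsIndQuasiAffineHom D.obj.hom) : ∃ U : Over S, Nonempty ((toDD p).obj U ≅ D) :=
  effective_of_isEffective D (isEffective_of_indQuasiAffine hp ((SchDDFam.ofSchDD p).obj D) fun _ ↦ hD)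

end Groth.Agent.SchDescent
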