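import Groth.Agent.SchDescent.CovHom
import Mathlib.CategoryTheory.Monoidal.Cartesian.Over

/-! # Morphisms of `Over S` which are refined by an fpqc covering: descent of morphisms along them -/

set_option backward.isDefEq.respectTransparency.types false

universe u

open CategoryTheory CategoryTheory.Limits MonoidalCategory CartesianMonoidalCategory AlgebraicGeometry

namespace Groth.Agent.SchDescent

/-- `p` is refined by an fpqc covering of its target. -/
def IsCovHom {A B : Scheme.{u}} (p : A ⟶ B) : Prop :=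
  ∃ (κ : Type u) (W : κ → Scheme.{u}) (c : ∀ k, W k ⟶ B), IsCover c ∧ ∃ l : ∀ k, W k ⟶ A, ∀ k, l k ≫ p = c k

theorem IsCovHom.of_cover {Z A B : Scheme.{u}} {p : A ⟶ B} {q : Z ⟶ B} (r : Z ⟶ A) (hr : r ≫ p = q)
    (hq : IsCover (fun _ : PUnit.{u + 1} ↦ q)) : IsCovHom p :=
  ⟨PUnit, fun _ ↦ Z, fun _ ↦ q, hq, fun _ ↦ r, fun _ ↦ hr⟩

theorem IsCovHom.of_isPullback {A B A' B' : Scheme.{u}} {p : A ⟶ B} {p' : A' ⟶ B'} {g' : A' ⟶ A}
    {g : B' ⟶ B} (hp : IsCovHom p) (h : IsPullback g' p' p g) : IsCovHom p' := by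
  obtain ⟨κ, W, c, hc, l, hl⟩ := hp
  refine ⟨κ, fun k ↦ pullback g (c k), fun k ↦ pullback.fst g (c k), isCover_pullback hc g,
    fun k ↦ h.lift (pullback.snd g (c k) ≫ l k) (pullback.fst g (c k)) ?_, fun k ↦ h.lift_snd _ _ _⟩
  rw [Category.assoc, hl, pullback.condition]

theorem IsCovHom.comp {A B C : Scheme.{u}} {p : A ⟶ B} {p' : B ⟶ C} (hp : IsCovHom p) (hp' : IsCovHom p') :
    IsCovHom (p ≫ p') := by
  obtain ⟨κ, W, c, hc, l, hl⟩ := hp
  obtain ⟨κ', W', c', hc', l', hl'⟩ := hp'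
  refine ⟨Σ _ : κ', κ, fun x ↦ pullback (l' x.1) (c x.2), fun x ↦ pullback.fst (l' x.1) (c x.2) ≫ c' x.1, ?_,
    fun x ↦ pullback.snd _ _ ≫ l x.2, fun x ↦ ?_⟩
  · exact Precoverage.comp_mem_coverings (J := Scheme.fpqcPrecoverage) c' hc'
      (fun k' k ↦ pullback.fst (l' k') (c k)) (fun k' ↦ isCover_pullback hc (l' k'))
  · rw [Category.assoc, reassoc_of% (hl x.2), ← pullback.condition_assoc, hl']

theorem IsCovHom.eq_of_comp_eq {A B C : Scheme.{u}} {p : A ⟶ B} (hp : IsCovHom p) {g g' : B ⟶ C}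
    (h : p ≫ g = p ≫ g') : g = g' := by
  obtain ⟨κ, W, c, hc, l, hl⟩ := hp
  exact hom_ext hc fun k ↦ by rw [← hl, Category.assoc, Category.assoc, h]

variable {S : Scheme.{u}} {A B C : Over S}

theorem IsCovHom.cancel {p : A ⟶ B} (hp : IsCovHom p.left) {g g' : B ⟶ C} (h : p ≫ g = p ≫ g') : g = g' :=
  Over.OverMorphism.ext (hp.eq_of_comp_eq (congrArg (fun k => k.left) h))

theorem IsCovHom.existsUnique_desc {p : A ⟶ B} (hp : IsCovHom p.left) (f : A ⟶ C)
    (compat : ∀ (T : Over S) (a b : T ⟶ A), a ≫ p = b ≫ p → a ≫ f = b ≫ f) : ∃! g : B ⟶ C, p ≫ g = f := by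
  have hp0 := hp
  obtain ⟨κ, W, c, hc, l, hl⟩ := hp
  have key : ∀ (T : Scheme.{u}) (a b : T ⟶ A.left), a ≫ p.left = b ≫ p.left → a ≫ f.left = b ≫ f.left := by
    intro T a b e
    have hb : b ≫ A.hom = a ≫ A.hom := by rw [← Over.w p, reassoc_of% e]
    exact congrArg (fun k => k.left) (compat (Over.mk (a ≫ A.hom)) (Over.homMk a rfl) (Over.homMk b hb)
      (Over.OverMorphism.ext e))
  obtain ⟨t, ht, -⟩ := existsUnique_glue hc (fun k ↦ l k ≫ f.left) (fun k k' T a b e ↦ by
    rw [← Category.assoc, ← Category.assoc]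
    exact key T _ _ (by rw [Category.assoc, Category.assoc, hl, hl, e]))
  have htw : t ≫ C.hom = B.hom := hom_ext hc fun k ↦ by
    rw [← Category.assoc, ht, Category.assoc, Over.w f, ← hl, Category.assoc, Over.w p]
  refine ⟨Over.homMk t htw, Over.OverMorphism.ext (?_ : p.left ≫ t = f.left),
    fun g hg ↦ hp0.cancel (hg.trans (Over.OverMorphism.ext (?_ : f.left = p.left ≫ t)))⟩
  all_goals
    first | refine Eq.symm ?_ | skip
  all_goals
    refine hom_ext (isCover_pullback hc p.left) fun k ↦ ?_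
  · rw [pullback.condition_assoc, ht, ← Category.assoc]
    exact (key _ _ _ (by rw [Category.assoc, hl, pullback.condition])).symm
  · rw [pullback.condition_assoc, ht, ← Category.assoc]
    exact key _ _ _ (by rw [Category.assoc, hl, pullback.condition])

theorem isPullback_whiskerLeft {A B : Over S} (X : Over S) (p : A ⟶ B) :
    IsPullback (snd X A).left (X ◁ p).left p.left (snd X B).left :=
  IsPullback.map (Over.forget S) (IsPullback.of_isLimit' ⟨(whiskerLeft_snd X p).symm⟩
    (PullbackCone.IsLimit.mk _ (fun s => lift (s.snd ≫ fst X B) s.fst) (fun s => lift_snd _ _)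
      (fun s => by apply CartesianMonoidalCategory.hom_ext <;> simp [s.condition])
      (fun s m k1 k2 => by apply CartesianMonoidalCategory.hom_ext <;> simp [← k1, ← k2])))

theorem isPullback_whiskerRight {A B : Over S} (p : A ⟶ B) (X : Over S) :
    IsPullback (fst A X).left (p ▷ X).left p.left (fst B X).left :=
  IsPullback.map (Over.forget S) (IsPullback.of_isLimit' ⟨(whiskerRight_fst p X).symm⟩
    (PullbackCone.IsLimit.mk _ (fun s => lift s.fst (s.snd ≫ snd B X)) (fun s => lift_fst _ _)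
      (fun s => by apply CartesianMonoidalCategory.hom_ext <;> simp [s.condition])
      (fun s m k1 k2 => by apply CartesianMonoidalCategory.hom_ext <;> simp [← k1, ← k2])))

theorem IsCovHom.tensorHom {A B A' B' : Over S} {p : A ⟶ B} {p' : A' ⟶ B'} (hp : IsCovHom p.left)
    (hp' : IsCovHom p'.left) : IsCovHom (p ⊗ₘ p').left := by
  rw [tensorHom_def, Over.comp_left]
  exact (hp.of_isPullback (isPullback_whiskerRight p A')).comp (hp'.of_isPullback (isPullback_whiskerLeft B p'))

end Groth.Agent.SchDescent
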