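import Groth.Agent.SchDescent.Cover
import Groth.Prelude.Def_DescFam

/-!
# Descent of morphisms of schemes
-/

set_option autoImplicit false
set_option backward.isDefEq.respectTransparency false
set_option backward.isDefEq.respectTransparency.types false

universe w' w u

open CategoryTheory CategoryTheory.Limits AlgebraicGeometry Desc

namespace Groth.Agent.SchDescent

variable {S : Scheme.{u}} {ι : Type w} {X : ι → Scheme.{u}} {f : ∀ i, X i ⟶ S}

lemma lifts_φ_congr {D : SchDDFam f} {T : Scheme.{u}} {i j : ι} {x₀ : T ⟶ X i} {x₁ : T ⟶ X j}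
    (h : x₀ ≫ f i = x₁ ≫ f j) {v v' : Lifts (D.obj i) x₀} (e : v.1 = v'.1) :
    D.φ x₀ x₁ h v = D.φ x₀ x₁ h v' := by
  rw [Subtype.ext e]

/-- `toDDFam` is faithful for an fpqc covering. -/
theorem toDDFam_faithful (hf : IsCover f) : (toDDFam f).Faithful where
  map_injective {U U'} a b h := by
    ext1
    have hP : IsCover (fun i ↦ pullback.snd (f i) U.hom) :=
      isCover_of_isPullback hf (p₂ := fun i ↦ pullback.fst (f i) U.hom)
        fun i ↦ (IsPullback.of_hasPullback (f i) U.hom).flip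
    refine hom_ext hP fun i ↦ ?_
    have := congrArg (fun c : (toDDFam f).obj U ⟶ (toDDFam f).obj U' ↦
      (c.hom i).left ≫ pullback.snd (f i) U'.hom) h
    simpa [toDDFam, canonicalDDFam] using this

/-- `toDDFam` is full for an fpqc covering. -/
theorem toDDFam_full (hf : IsCover f) : (toDDFam f).Full where
  map_surjective {U U'} a := by
    have hP : IsCover (fun i ↦ pullback.snd (f i) U.hom) :=
      isCover_of_isPullback hf (p₂ := fun i ↦ pullback.fst (f i) U.hom)
        fun i ↦ (IsPullback.of_hasPullback (f i) U.hom).flip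
    have ha : ∀ i, (a.hom i).left ≫ pullback.fst (f i) U'.hom = pullback.fst (f i) U.hom :=
      fun i ↦ Over.w (a.hom i)
    obtain ⟨t, ht, -⟩ := existsUnique_glue hP (fun i ↦ (a.hom i).left ≫ pullback.snd (f i) U'.hom)
      (fun i j T x y hxy ↦ by
        have hS : (x ≫ pullback.fst (f i) U.hom) ≫ f i = (y ≫ pullback.fst (f j) U.hom) ≫ f j := by
          rw [Category.assoc, Category.assoc, pullback.condition, pullback.condition, reassoc_of% hxy]
        have key := a.comm (x ≫ pullback.fst (f i) U.hom) (y ≫ pullback.fst (f j) U.hom) hS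
          ⟨x, rfl⟩ ⟨x ≫ (a.hom i).left, by
            rw [Category.assoc]; exact congrArg (x ≫ ·) (ha i)⟩ rfl
        have e : (((toDDFam f).obj U).φ (x ≫ pullback.fst (f i) U.hom)
            (y ≫ pullback.fst (f j) U.hom) hS ⟨x, rfl⟩).1 = y := by
          apply pullback.hom_ext
          · simp [toDDFam, canonicalDDFam]
          · simp [toDDFam, canonicalDDFam, hxy]
        rw [e] at key
        have key' := congrArg (· ≫ pullback.snd (f j) U'.hom) key
        simpa [toDDFam, canonicalDDFam] using key')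
    have hover : t ≫ U'.hom = U.hom := by
      refine hom_ext hP fun i ↦ ?_
      rw [← Category.assoc, ht i, Category.assoc, ← pullback.condition, reassoc_of% ha i,
        pullback.condition]
    refine ⟨Over.homMk t hover, ?_⟩
    ext i : 3
    apply pullback.hom_ext
    · exact (pullback.lift_fst _ _ _).trans ((Category.comp_id _).trans (ha i).symm)
    · exact (pullback.lift_snd _ _ _).trans (ht i)

section pull

variable {ι' : Type w'} {X' : ι' → Scheme.{u}} {f' : ∀ j, X' j ⟶ S} {α : ι' → ι}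
  {p' : ∀ j, X' j ⟶ X (α j)} (w : ∀ j, p' j ≫ f (α j) = f' j ≫ 𝟙 S)

variable (f f') in
/-- Every member of `f` is covered by pieces mapping into members of `f'` over the base. -/
def Refines : Prop :=
  ∀ i, ∃ (κ : Type (max u w')) (W : κ → Scheme.{u}) (z : ∀ k, W k ⟶ X i), IsCover z ∧
    ∀ k, ∃ (j : ι') (y : W k ⟶ X' j), y ≫ f' j = z k ≫ f i

include w in
lemma compat {T : Scheme.{u}} {i : ι} {j : ι'} {x : T ⟶ X i} {y : T ⟶ X' j}
    (h : y ≫ f' j = x ≫ f i) : x ≫ f i = (y ≫ p' j) ≫ f (α j) := by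
  rw [Category.assoc, w, Category.comp_id, h]

variable {D D' : SchDDFam f} (a : (pullDDFam w).obj D ⟶ (pullDDFam w).obj D')

/-- The value of the descended morphism at a point, computed through `(j, y)`. -/
noncomputable def F {T : Scheme.{u}} {i : ι} {x : T ⟶ X i} (v : Lifts (D.obj i) x) {j : ι'}
    (y : T ⟶ X' j) (h : y ≫ f' j = x ≫ f i) : Lifts (D'.obj i) x :=
  D'.φ (y ≫ p' j) x (compat w h).symm
    (liftsPullbackEquiv (D'.obj (α j)) (p' j) y
      (SchDDFam.Hom.push a ((liftsPullbackEquiv (D.obj (α j)) (p' j) y).symm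
        (D.φ x (y ≫ p' j) (compat w h) v))))

lemma F_indep {T : Scheme.{u}} {i : ι} {x : T ⟶ X i} (v : Lifts (D.obj i) x) {j j' : ι'}
    (y : T ⟶ X' j) (h : y ≫ f' j = x ≫ f i) (y' : T ⟶ X' j') (h' : y' ≫ f' j' = x ≫ f i) :
    F w a v y h = F w a v y' h' := by
  let v₁ : Lifts (((pullDDFam w).obj D).obj j) y :=
    (liftsPullbackEquiv (D.obj (α j)) (p' j) y).symm (D.φ x (y ≫ p' j) (compat w h) v)
  have hyy : y ≫ f' j = y' ≫ f' j' := h.trans h'.symm
  have key : ((pullDDFam w).obj D').φ y y' hyy (SchDDFam.Hom.push a v₁) =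
      SchDDFam.Hom.push a (((pullDDFam w).obj D).φ y y' hyy v₁) :=
    Subtype.ext (a.comm y y' hyy v₁ (SchDDFam.Hom.push a v₁) rfl)
  have hv : ((pullDDFam w).obj D).φ y y' hyy v₁ =
      (liftsPullbackEquiv (D.obj (α j')) (p' j') y').symm (D.φ x (y' ≫ p' j') (compat w h') v) := by
    show (liftsPullbackEquiv _ _ _).symm (D.φ _ _ _ (liftsPullbackEquiv _ _ _ v₁)) = _
    rw [Equiv.apply_symm_apply, D.φ_comp]
  unfold F
  rw [← hv, ← key]
  have e : ((pullDDFam w).obj D').φ y y' hyy (SchDDFam.Hom.push a v₁) =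
      (liftsPullbackEquiv (D'.obj (α j')) (p' j') y').symm (D'.φ (y ≫ p' j) (y' ≫ p' j')
        (pull_compat w y y' hyy) (liftsPullbackEquiv (D'.obj (α j)) (p' j) y
          (SchDDFam.Hom.push a v₁))) := rfl
  rw [e, Equiv.apply_symm_apply, D'.φ_comp]

lemma F_natural {T T' : Scheme.{u}} (g : T' ⟶ T) {i : ι} {x : T ⟶ X i} (v : Lifts (D.obj i) x)
    {x' : T' ⟶ X i} (v' : Lifts (D.obj i) x') (hv : v'.1 = g ≫ v.1) {j : ι'} (y : T ⟶ X' j)
    (h : y ≫ f' j = x ≫ f i) (y' : T' ⟶ X' j) (hy : y' = g ≫ y) (h' : y' ≫ f' j = x' ≫ f i) :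
    (F w a v' y' h').1 = g ≫ (F w a v y h).1 := by
  have hx : g ≫ x = x' := by rw [← v.2, ← v'.2, hv, Category.assoc]
  subst hy
  have h1 := D.φ_natural g x (y ≫ p' j) (compat w h) x' ((g ≫ y) ≫ p' j) hx (Category.assoc _ _ _).symm
    (compat w h') v v' hv
  refine D'.φ_natural g (y ≫ p' j) x (compat w h).symm ((g ≫ y) ≫ p' j) x' (Category.assoc _ _ _).symm
    hx (compat w h').symm _ _ ?_
  simp only [liftsPullbackEquiv, SchDDFam.Hom.push, Equiv.coe_fn_mk, Equiv.coe_fn_symm_mk]
  rw [← Category.assoc g, ← Category.assoc g]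
  congr 2
  apply pullback.hom_ext
  · simp [h1]
  · simp

/-- `pullDDFam` along a refinement is full. -/
theorem pullDDFam_full (hR : Refines f f') : (pullDDFam w).Full where
  map_surjective {D D'} a := by
    choose κ W z hz jy hjy using hR
    choose yk hyk using hjy
    let P : ∀ i, κ i → Scheme.{u} := fun i k ↦ pullback (D.obj i).hom (z i k)
    have hP : ∀ i, IsCover (fun k ↦ pullback.fst (D.obj i).hom (z i k)) :=
      fun i ↦ isCover_pullback (hz i) _
    have hcond : ∀ i k, (pullback.snd (D.obj i).hom (z i k) ≫ yk i k) ≫ f' (jy i k) =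
        (pullback.fst (D.obj i).hom (z i k) ≫ (D.obj i).hom) ≫ f i := by
      intro i k
      rw [Category.assoc, hyk, ← pullback.condition_assoc, Category.assoc]
    let pt : ∀ i k, Lifts (D.obj i) (pullback.fst (D.obj i).hom (z i k) ≫ (D.obj i).hom) :=
      fun i k ↦ ⟨pullback.fst (D.obj i).hom (z i k), rfl⟩
    have hglue : ∀ i, ∃ m : (D.obj i).left ⟶ (D'.obj i).left, ∀ k,
        pullback.fst (D.obj i).hom (z i k) ≫ m = (F w a (pt i k) _ (hcond i k)).1 := fun i ↦ by
      refine (existsUnique_glue (hP i) (fun k ↦ (F w a (pt i k) _ (hcond i k)).1) ?_).exists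
      intro k k' T s s' e
      let v : Lifts (D.obj i) (s ≫ pullback.fst (D.obj i).hom (z i k) ≫ (D.obj i).hom) :=
        ⟨s ≫ pullback.fst (D.obj i).hom (z i k), Category.assoc _ _ _⟩
      have h1 : (s ≫ pullback.snd (D.obj i).hom (z i k) ≫ yk i k) ≫ f' (jy i k) =
          (s ≫ pullback.fst (D.obj i).hom (z i k) ≫ (D.obj i).hom) ≫ f i := by
        simp only [Category.assoc]
        simpa only [Category.assoc] using congrArg (s ≫ ·) (hcond i k)
      have h2 : (s' ≫ pullback.snd (D.obj i).hom (z i k') ≫ yk i k') ≫ f' (jy i k') =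
          (s ≫ pullback.fst (D.obj i).hom (z i k) ≫ (D.obj i).hom) ≫ f i := by
        rw [reassoc_of% e]
        simp only [Category.assoc]
        simpa only [Category.assoc] using congrArg (s' ≫ ·) (hcond i k')
      rw [← F_natural w a s (pt i k) v rfl _ (hcond i k) _ rfl h1,
        ← F_natural w a s' (pt i k') v e _ (hcond i k') _ rfl h2, F_indep]
    choose m hm using hglue
    have hover : ∀ i, m i ≫ (D'.obj i).hom = (D.obj i).hom := fun i ↦ hom_ext (hP i) fun k ↦ by
      rw [← Category.assoc, hm, (F w a (pt i k) _ (hcond i k)).2]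
    have spec : ∀ {T : Scheme.{u}} {i : ι} {x : T ⟶ X i} (v : Lifts (D.obj i) x) {j : ι'}
        (y : T ⟶ X' j) (h : y ≫ f' j = x ≫ f i), v.1 ≫ m i = (F w a v y h).1 := by
      intro T i x v j y h
      refine hom_ext (isCover_pullback (hP i) v.1) fun k ↦ ?_
      set q := pullback.fst v.1 (pullback.fst (D.obj i).hom (z i k))
      set r := pullback.snd v.1 (pullback.fst (D.obj i).hom (z i k))
      have hqr : q ≫ v.1 = r ≫ pullback.fst (D.obj i).hom (z i k) := pullback.condition
      let v' : Lifts (D.obj i) (q ≫ x) := ⟨q ≫ v.1, by rw [Category.assoc, v.2]⟩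
      have hy1 : (q ≫ y) ≫ f' j = (q ≫ x) ≫ f i := by rw [Category.assoc, h, Category.assoc]
      have hy2 : (r ≫ pullback.snd (D.obj i).hom (z i k) ≫ yk i k) ≫ f' (jy i k) =
          (q ≫ x) ≫ f i := by
        rw [show q ≫ x = r ≫ pullback.fst (D.obj i).hom (z i k) ≫ (D.obj i).hom from
          (congrArg (q ≫ ·) v.2).symm.trans (by rw [reassoc_of% hqr]), Category.assoc]
        simpa only [Category.assoc] using congrArg (r ≫ ·) (hcond i k)
      rw [reassoc_of% hqr, hm, ← F_natural w a r (pt i k) v' hqr _ (hcond i k) _ rfl hy2,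
        ← F_natural w a q v v' rfl y h (q ≫ y) rfl hy1, F_indep]
    let b : D ⟶ D' := ⟨fun i ↦ Over.homMk (m i) (hover i), by
      intro T i i' x x' h v u hu
      refine hom_ext (isCover_pullback (hz i) x) fun k ↦ ?_
      set q := pullback.fst x (z i k)
      set r := pullback.snd x (z i k)
      have h1 : (r ≫ yk i k) ≫ f' (jy i k) = (q ≫ x) ≫ f i := by
        rw [Category.assoc, hyk, ← pullback.condition_assoc, Category.assoc]
      let v' : Lifts (D.obj i) (q ≫ x) := ⟨q ≫ v.1, by rw [Category.assoc, v.2]⟩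
      let u' : Lifts (D'.obj i) (q ≫ x) := ⟨q ≫ u.1, by rw [Category.assoc, u.2]⟩
      have h' : (q ≫ x) ≫ f i = (q ≫ x') ≫ f i' := by rw [Category.assoc, h, Category.assoc]
      have hu' : u' = F w a v' _ h1 := Subtype.ext (by
        rw [← spec v' _ h1]
        show q ≫ u.1 = (q ≫ v.1) ≫ m i
        rw [hu, Category.assoc]; rfl)
      have e1 := D.φ_natural q x x' h (q ≫ x) (q ≫ x') rfl rfl h' v v' rfl
      have e2 := D'.φ_natural q x x' h (q ≫ x) (q ≫ x') rfl rfl h' u u' rfl
      show q ≫ (D'.φ x x' h u).1 = q ≫ (D.φ x x' h v).1 ≫ m i'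
      rw [← e2, ← Category.assoc, ← e1, hu', spec _ _ (h1.trans h')]
      unfold F
      rw [D'.φ_comp, D.φ_comp]⟩
    refine ⟨b, ?_⟩
    ext j : 3
    apply pullback.hom_ext
    · let x := pullback.snd (D.obj (α j)).hom (p' j) ≫ p' j
      let v : Lifts (D.obj (α j)) x :=
        ⟨pullback.fst (D.obj (α j)).hom (p' j), pullback.condition⟩
      have h : pullback.snd (D.obj (α j)).hom (p' j) ≫ f' j = x ≫ f (α j) := by
        rw [Category.assoc, w, Category.comp_id]
      have hsp := spec v _ h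
      refine (pullback.lift_fst _ _ _).trans (hsp.trans ?_)
      unfold F
      rw [D.φ_self, D'.φ_self]
      show pullback.lift _ _ _ ≫ (a.hom j).left ≫ _ = _
      rw [← Category.assoc]
      refine congrArg (· ≫ pullback.fst _ _) ?_
      rw [show pullback.lift (pullback.fst (D.obj (α j)).hom (p' j))
        (pullback.snd (D.obj (α j)).hom (p' j)) _ = 𝟙 _ from pullback.hom_ext (by simp) (by simp)]
      exact Category.id_comp _
    · exact (pullback.lift_snd _ _ _).trans ((Category.comp_id _).trans (Over.w (a.hom j)).symm)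

/-- `pullDDFam` along a refinement is faithful. -/
theorem pullDDFam_faithful (hR : Refines f f') : (pullDDFam w).Faithful where
  map_injective {D D'} b c h := by
    ext i : 3
    obtain ⟨κ, W, z, hz, hk⟩ := hR i
    refine hom_ext (isCover_pullback hz (D.obj i).hom) fun k ↦ ?_
    obtain ⟨j, y, hy⟩ := hk k
    set q := pullback.fst (D.obj i).hom (z k)
    set r := pullback.snd (D.obj i).hom (z k)
    have hc : (q ≫ (D.obj i).hom) ≫ f i = (r ≫ y ≫ p' j) ≫ f (α j) := by
      rw [pullback.condition, Category.assoc, ← hy]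
      simp only [Category.assoc, w, Category.comp_id]
      rfl
    let v : Lifts (D.obj i) (q ≫ (D.obj i).hom) := ⟨q, rfl⟩
    let v₁ := D.φ _ _ hc v
    have hv : (D.φ (r ≫ y ≫ p' j) (q ≫ (D.obj i).hom) hc.symm v₁).1 = q := by
      rw [D.φ_comp, D.φ_self]
    have e : v₁.1 ≫ (b.hom (α j)).left = v₁.1 ≫ (c.hom (α j)).left := by
      have := congrArg (fun d : (pullDDFam w).obj D ⟶ (pullDDFam w).obj D' ↦
        ((liftsPullbackEquiv (D.obj (α j)) (p' j) (r ≫ y)).symm
          ⟨v₁.1, v₁.2.trans (Category.assoc _ _ _).symm⟩).1 ≫ (d.hom j).left ≫ pullback.fst _ _) h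
      simpa [pullDDFam, pullDDFamObj, liftsPullbackEquiv] using this
    have key : ∀ d : D ⟶ D', q ≫ (d.hom i).left =
        (D'.φ (r ≫ y ≫ p' j) (q ≫ (D.obj i).hom) hc.symm
          ⟨v₁.1 ≫ (d.hom (α j)).left, by rw [Category.assoc, Over.w, v₁.2]⟩).1 := fun d ↦ by
      rw [d.comm _ _ hc.symm v₁ _ rfl, hv]
    rw [key, key]
    exact congrArg Subtype.val (lifts_φ_congr _ e)

end pull

theorem isCover_ulift {Y : Scheme.{u}} {κ : Type w'} {W : κ → Scheme.{u}} {z : ∀ k, W k ⟶ Y}
    (hz : IsCover z) : IsCover (fun k : ULift.{u} κ ↦ z k.down) := by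
  rw [IsCover] at hz ⊢
  convert hz using 1
  exact Presieve.ofArrows_comp_eq_of_surjective z ULift.down_surjective

/-- A covering refines everything. -/
theorem refines_of_isCover {ι' : Type w'} {X' : ι' → Scheme.{u}} {f' : ∀ j, X' j ⟶ S}
    (hf' : IsCover f') : Refines f f' := fun i ↦
  ⟨ULift.{u} ι', _, _, isCover_pullback (isCover_ulift hf') (f i), fun k ↦
    ⟨k.down, pullback.snd (f i) (f' k.down), pullback.condition.symm⟩⟩

end Groth.Agent.SchDescent
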