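import Mathlib

/-!
# Morphisms to separated schemes agreeing on a scheme-theoretically dense subscheme
-/

set_option autoImplicit false

universe u

open CategoryTheory Limits AlgebraicGeometry

namespace Groth.Agent.SchDescent

/-- Morphisms to a separated scheme agreeing on a scheme-theoretically dominant quasi-compact map are equal. -/
theorem hom_ext_of_isSchemeTheoreticallyDominant {W' W Z T : Scheme.{u}} (a : W' ⟶ W)
    [IsSchemeTheoreticallyDominant a] [QuasiCompact a] (pZ : Z ⟶ T) [IsSeparated pZ] {u v : W ⟶ Z}
    (hT : u ≫ pZ = v ≫ pZ) (h : a ≫ u = a ≫ v) : u = v := by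
  let k := pullback.fst (pullback.lift u v hT) (pullback.diagonal pZ)
  have hk : k ≫ u = k ≫ v := by
    have e := pullback.condition (f := pullback.lift u v hT) (g := pullback.diagonal pZ)
    have h1 := congr($e ≫ pullback.fst pZ pZ)
    have h2 := congr($e ≫ pullback.snd pZ pZ)
    simp only [Category.assoc, pullback.lift_fst, pullback.lift_snd, pullback.diagonal_fst,
      pullback.diagonal_snd, Category.comp_id] at h1 h2
    rw [h1, h2]
  have hl : a ≫ pullback.lift u v hT = (a ≫ u) ≫ pullback.diagonal pZ := by
    refine pullback.hom_ext ?_ ?_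
    · rw [Category.assoc, Category.assoc, Category.assoc, pullback.diagonal_fst, Category.comp_id, pullback.lift_fst]
    · rw [Category.assoc, Category.assoc, Category.assoc, pullback.diagonal_snd, Category.comp_id, pullback.lift_snd, h]
  let l := pullback.lift a (a ≫ u) hl
  have hla : l ≫ k = a := pullback.lift_fst _ _ _
  haveI : IsIso k := by
    rw [IsClosedImmersion.isIso_iff_ker_eq_bot]
    refine le_bot_iff.1 ?_
    rw [← a.ker_eq_bot, ← hla]
    exact Scheme.Hom.le_ker_comp l k
  exact (cancel_epi k).1 hk

end Groth.Agent.SchDescent
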