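import Groth.Agent.SchDescent.Effective
import Mathlib.AlgebraicGeometry.Morphisms.UniversallyInjective
import Mathlib.AlgebraicGeometry.Morphisms.Flat

/-!
# Descent along radicial morphisms
-/

set_option autoImplicit false
set_option backward.isDefEq.respectTransparency false
set_option backward.isDefEq.respectTransparency.types false

universe u

open CategoryTheory CategoryTheory.Limits AlgebraicGeometry Desc

namespace Groth.Agent.SchDescent

/-- A flat, surjective, quasi-compact, injective morphism to an affine scheme is affine. -/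
theorem isAffineHom_of_injective {X S : Scheme.{u}} (g : X ⟶ S) [Flat g] [Surjective g] [QuasiCompact g]
    [IsAffine S] (hg : Function.Injective g) : IsAffineHom g := by
  refine isAffineHom_of_forall_exists_isAffineOpen g fun s ↦ ?_
  obtain ⟨x, rfl⟩ := g.surjective s
  obtain ⟨_, ⟨N, hN, rfl⟩, hx, -⟩ :=
    X.isBasis_affineOpens.exists_subset_of_mem_open (Set.mem_univ x) isOpen_univ
  have hNo : IsOpen (g '' (N : Set X)) := by
    rw [← (Flat.isQuotientMap_of_surjective g).isOpen_preimage, Set.preimage_image_eq _ hg]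
    exact N.2
  obtain ⟨_, ⟨_, ⟨r, rfl⟩, rfl⟩, hr, hrN⟩ := (isBasis_basicOpen S).exists_subset_of_mem_open
    (show g x ∈ g '' (N : Set X) from ⟨x, hx, rfl⟩) hNo
  refine ⟨S.basicOpen r, hr, (isAffineOpen_top S).basicOpen r, ?_⟩
  rw [Scheme.preimage_basicOpen_top]
  have hle : X.basicOpen (g.appTop r) ≤ N := by
    rw [← Scheme.preimage_basicOpen_top]
    intro y hy
    obtain ⟨z, hz, hzy⟩ := hrN hy
    exact hg hzy ▸ hz
  have : X.basicOpen (g.appTop r) = X.basicOpen (X.presheaf.map (homOfLE (le_top : N ≤ ⊤)).op (g.appTop r)) := by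
    rw [Scheme.basicOpen_res]
    exact (inf_eq_right.mpr hle).symm
  rw [this]
  exact hN.basicOpen _

/-- Descent along an affine radicial faithfully flat morphism to an affine scheme. -/
theorem effective_of_universallyInjective_affine {X S : Scheme.{u}} {p : X ⟶ S} [IsAffine X] [IsAffine S]
    [Flat p] [Surjective p] [UniversallyInjective p] (D : SchDD p) :
    ∃ U : Over S, Nonempty ((toDD p).obj U ≅ D) := by
  have hδ : ∀ a b, Orb D a b → a = b := by
    intro a b ⟨ρ, ha, hb⟩
    haveI : UniversallyInjective (src D) := MorphismProperty.pullback_fst (P := @UniversallyInjective) _ _ inferInstance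
    let d : D.obj.left ⟶ Rel D := pullback.lift (𝟙 _) D.obj.hom (Category.id_comp _)
    have : ρ = d a := (src D).injective (by
      rw [ha, ← Scheme.Hom.comp_apply, pullback.lift_fst]; rfl)
    subst this
    rw [← hb, ← Scheme.Hom.comp_apply, lift_tgt, trans_self D _ (Category.id_comp _)]
    rfl
  have hp : ∀ v : D.obj.left, ∃ (W : Over S) (a : (toDD p).obj W ⟶ D), IsOpenImmersion a.hom.left ∧
      v ∈ Set.range a.hom.left := by
    intro v
    obtain ⟨_, ⟨U, hU, rfl⟩, hv, -⟩ :=
      D.obj.left.isBasis_affineOpens.exists_subset_of_mem_open (Set.mem_univ v) isOpen_univ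
    haveI : IsAffine (Scheme.Opens.toScheme U) := hU
    obtain ⟨W, a, ha, har⟩ := exists_effective_piece D (U₂ := U) hU.isCompact
      (fun a b ha hab ↦ hδ a b hab ▸ ha) le_rfl (fun a b ha hab ↦ hδ a b hab ▸ ha)
    exact ⟨W, a, ha, har.symm ▸ hv⟩
  choose W a ha hv using hp
  exact effective_of_cover D a ha fun v ↦ ⟨v, hv v⟩

/-- Descent along radicial fpqc morphisms. -/
theorem effective_of_universallyInjective {X S : Scheme.{u}} (p : X ⟶ S) [Flat p] [Surjective p]
    [QuasiCompact p] [UniversallyInjective p] (D : SchDD p) :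
    ∃ U : Over S, Nonempty ((toDD p).obj U ≅ D) := by
  refine effective_of_isEffective.{0} D (isEffective_of_restrict (isCover_singleton p) _
    (fun U : S.affineOpens ↦ U.1.ι) (fun _ ↦ inferInstance) (fun s ↦ ?_) fun U ↦ ?_)
  · obtain ⟨_, ⟨U, hU, rfl⟩, hs, -⟩ :=
      S.isBasis_affineOpens.exists_subset_of_mem_open (Set.mem_univ s) isOpen_univ
    exact ⟨⟨U, hU⟩, ⟨s, hs⟩, rfl⟩
  · haveI : IsAffine U.1.toScheme := U.2
    let q := pullback.snd p U.1.ι
    haveI : Flat q := inferInstance
    haveI : Surjective q := inferInstance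
    haveI : UniversallyInjective q := MorphismProperty.pullback_snd (P := @UniversallyInjective) _ _ inferInstance
    haveI : IsAffineHom q := isAffineHom_of_injective q q.injective
    haveI : IsAffine (pullback p U.1.ι) := isAffine_of_isAffineHom q
    obtain ⟨W, ⟨e⟩⟩ := effective_of_universallyInjective_affine (p := q)
      ((SchDDFam.toSchDD q).obj ((pullDDFam (α := id) (restrict_w (f := fun _ : PUnit.{1} ↦ p) U.1.ι)).obj
        ((SchDDFam.ofSchDD p).obj D)))
    exact ⟨W, ⟨(SchDDFam.ofSchDD q).mapIso e⟩⟩

end Groth.Agent.SchDescent
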