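import Groth.Agent.SchDescent.FiniteOrbit
import Mathlib.AlgebraicGeometry.AlgClosed.Basic
import Mathlib.FieldTheory.IsAlgClosed.AlgebraicClosure

/-!
# The size of orbits along finite morphisms
-/

set_option autoImplicit false
set_option backward.isDefEq.respectTransparency false
set_option backward.isDefEq.respectTransparency.types false

universe u

open CategoryTheory CategoryTheory.Limits AlgebraicGeometry Desc

namespace Groth.Agent.SchDescent

variable {X S : Scheme.{u}} {p : X ⟶ S} [IsFinite p]

/-- Orbits have at most as many points as geometric fibres. -/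
theorem exists_enum_orbit (D : SchDD p) {d : ℕ} (hd : 0 < d)
    (hfib : ∀ (k : Type u) [Field k] [IsAlgClosed k] (y : Spec (CommRingCat.of k) ⟶ S),
      Set.encard {x : Spec (CommRingCat.of k) ⟶ X | x ≫ p = y} ≤ d) (a : D.obj.left) :
    ∃ v : Fin d → D.obj.left, orbitSet D a ⊆ Set.range v ∧ ∀ i, p (D.obj.hom (v i)) = p (D.obj.hom a) := by
  classical
  let k := AlgebraicClosure (D.obj.left.residueField a)
  let w : Spec (CommRingCat.of k) ⟶ D.obj.left :=
    Spec.map (CommRingCat.ofHom (algebraMap (D.obj.left.residueField a) k)) ≫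
      D.obj.left.fromSpecResidueField a
  let pt : (Spec (CommRingCat.of k) : Scheme.{u}) := IsLocalRing.closedPoint k
  have hw : w pt = a := Scheme.fromSpecResidueField_apply a _
  let y := w ≫ toBase D
  let T := {x : Spec (CommRingCat.of k) ⟶ X | x ≫ p = y}
  have hT : T.Finite := Set.finite_of_encard_le_coe (hfib k y)
  let φ : T → D.obj.left := fun x ↦ trans D w x.1 x.2.symm pt
  have hsurj : orbitSet D a ⊆ Set.range φ := by
    rintro b ⟨ρ, hρ, rfl⟩
    haveI : IsFinite (src D) := MorphismProperty.pullback_fst (P := @IsFinite) _ _ inferInstance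
    let P := pullback w (src D)
    haveI : IsFinite (pullback.fst w (src D)) := MorphismProperty.pullback_fst (P := @IsFinite) _ _ inferInstance
    obtain ⟨z, -, hz⟩ := Scheme.Pullback.exists_preimage_pullback (f := w) (g := src D) pt ρ (hw.trans hρ.symm)
    haveI : Finite ↥P := by
      refine Set.finite_univ_iff.mp (((pullback.fst w (src D)).finite_preimage_singleton pt).subset
        fun q _ ↦ Subsingleton.elim _ _)
    haveI : JacobsonSpace ↥P := LocallyOfFiniteType.jacobsonSpace (pullback.fst w (src D))
    have hcl : IsClosed ({z} : Set ↥P) := isClosed_discrete _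
    let s := pointOfClosedPoint (pullback.fst w (src D)) z hcl
    let x : Spec (CommRingCat.of k) ⟶ X := s ≫ pullback.snd w (src D) ≫ pullback.snd (toBase D) p
    have hs : s ≫ pullback.snd w (src D) ≫ src D = w := by
      rw [← pullback.condition, ← Category.assoc, pointOfClosedPoint_comp, Category.id_comp]
    have hx : x ∈ T := by
      show (s ≫ pullback.snd w (src D) ≫ pullback.snd (toBase D) p) ≫ p = w ≫ toBase D
      refine Eq.trans ?_ (congrArg (· ≫ toBase D) hs)
      simp only [Category.assoc, pullback.condition]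
    refine ⟨⟨x, hx⟩, ?_⟩
    have e : trans D w x hx.symm = (s ≫ pullback.snd w (src D)) ≫ tgt D := by
      rw [show s ≫ pullback.snd w (src D) = pullback.lift w x hx.symm from
        pullback.hom_ext (by rw [pullback.lift_fst, Category.assoc]; exact hs)
          (by rw [pullback.lift_snd, Category.assoc]), lift_tgt]
    show trans D w x hx.symm pt = tgt D ρ
    rw [e, Scheme.Hom.comp_apply, Scheme.Hom.comp_apply, pointOfClosedPoint_apply, hz]
  haveI : Fintype T := hT.fintype
  have hne : Nonempty T := by
    obtain ⟨x, -⟩ := hsurj (show Orb D a a from ⟨pullback.lift (𝟙 _) D.obj.hom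
      (Category.id_comp _) a, by rw [← Scheme.Hom.comp_apply, pullback.lift_fst]; rfl,
      by rw [← Scheme.Hom.comp_apply, lift_tgt, trans_self D _ (Category.id_comp _)]; rfl⟩)
    exact ⟨x⟩
  have hcard : Fintype.card T ≤ d := by
    have h1 : T.encard ≤ (d : ℕ∞) := hfib k y
    rw [Set.encard_eq_coe_toFinset_card, Nat.cast_le, Set.toFinset_card] at h1
    exact h1
  obtain ⟨g, hg⟩ : ∃ g : Fin d → T, Function.Surjective g := by
    let e := Fintype.equivFin T
    refine ⟨fun i ↦ if h : i.1 < Fintype.card T then e.symm ⟨i.1, h⟩ else hne.some,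
      fun t ↦ ⟨⟨e t, (e t).2.trans_le hcard⟩, ?_⟩⟩
    simp only [(e t).2, dite_true, Fin.eta, Equiv.symm_apply_apply]
  refine ⟨φ ∘ g, fun b hb ↦ ?_, fun i ↦ ?_⟩
  · obtain ⟨x, rfl⟩ := hsurj hb
    obtain ⟨i, rfl⟩ := hg x
    exact ⟨i, rfl⟩
  · show (toBase D) (trans D w (g i).1 (g i).2.symm pt) = toBase D a
    refine Eq.trans ?_ (congrArg (toBase D) hw)
    refine (Scheme.Hom.comp_apply _ _ _).symm.trans (Eq.trans ?_ (Scheme.Hom.comp_apply _ _ _))
    exact congrArg (fun q : Spec (CommRingCat.of k) ⟶ S ↦ q pt) ((trans_base D _).trans (g i).2)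

end Groth.Agent.SchDescent
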