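import Groth.Agent.SchDescent.Pull
import Mathlib.AlgebraicGeometry.Limits

/-!
# The descent datum on a disjoint union
-/

set_option autoImplicit false
set_option backward.isDefEq.respectTransparency false
set_option backward.isDefEq.respectTransparency.types false

universe w u

open CategoryTheory CategoryTheory.Limits AlgebraicGeometry Desc

namespace Groth.Agent.SchDescent

variable {S : Scheme.{u}} {ι : Type w} [Small.{u} ι] {X : ι → Scheme.{u}} {f : ∀ i, X i ⟶ S}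

lemma sigma_isCover {Y : ι → Scheme.{u}} : IsCover (fun i ↦ Sigma.ι Y i) :=
  isCover_of_openCover (fun i ↦ (sigmaOpenCover Y).map_prop i) fun y ↦
    ⟨_, (sigmaOpenCover Y).covers y⟩

lemma hom_ext_of_sigma {Y : ι → Scheme.{u}} {T Z : Scheme.{u}} (a : T ⟶ ∐ Y) {g g' : T ⟶ Z}
    (h : ∀ i (T' : Scheme.{u}) (q : T' ⟶ T) (r : T' ⟶ Y i), q ≫ a = r ≫ Sigma.ι Y i →
      q ≫ g = q ≫ g') : g = g' :=
  hom_ext (isCover_pullback sigma_isCover a) fun i ↦ h i _ _ _ pullback.condition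

variable (D : SchDDFam f)

/-- The pieces of the relation. -/
noncomputable abbrev cpPiece (k : ι × ι) : Scheme.{u} := pullback ((D.obj k.1).hom ≫ f k.1) (f k.2)

/-- The disjoint union. -/
noncomputable abbrev cpHom : (∐ fun i ↦ (D.obj i).left) ⟶ ∐ X :=
  Limits.Sigma.map fun i ↦ (D.obj i).hom

lemma cpHom_ι (i : ι) : Sigma.ι (fun i ↦ (D.obj i).left) i ≫ cpHom D = (D.obj i).hom ≫ Sigma.ι X i :=
  Limits.Sigma.ι_map (fun i ↦ (D.obj i).hom) i

/-- The inclusion of a piece. -/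
noncomputable def cpIncl (k : ι × ι) : cpPiece D k ⟶ pullback (cpHom D ≫ Sigma.desc f) (Sigma.desc f) :=
  pullback.map _ _ _ _ (Sigma.ι (fun i ↦ (D.obj i).left) k.1) (Sigma.ι X k.2) (𝟙 S)
    (by rw [Category.comp_id, reassoc_of% cpHom_ι, Sigma.ι_desc]) (by rw [Category.comp_id, Sigma.ι_desc])

lemma cpIncl_isCover : IsCover (cpIncl D) := by
  refine isCover_of_openCover (fun k ↦ ?_) fun ρ ↦ ?_
  · haveI : IsOpenImmersion (Sigma.ι (fun i ↦ (D.obj i).left) k.1) := (sigmaOpenCover _).map_prop _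
    haveI : IsOpenImmersion (Sigma.ι X k.2) := (sigmaOpenCover _).map_prop _
    unfold cpIncl
    infer_instance
  · obtain ⟨k₁, v, hv⟩ := exists_mem_range (sigma_isCover (Y := fun i ↦ (D.obj i).left))
      (pullback.fst (cpHom D ≫ Sigma.desc f) (Sigma.desc f) ρ)
    obtain ⟨k₂, x, hx⟩ := exists_mem_range (sigma_isCover (Y := X))
      (pullback.snd (cpHom D ≫ Sigma.desc f) (Sigma.desc f) ρ)
    refine ⟨(k₁, k₂), ?_⟩
    unfold cpIncl
    rw [Scheme.Pullback.range_map]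
    exact ⟨⟨v, hv⟩, ⟨x, hx⟩⟩

/-- The value on a piece. -/
noncomputable def cpVal (k : ι × ι) : cpPiece D k ⟶ ∐ fun i ↦ (D.obj i).left :=
  (D.φ (pullback.fst _ _ ≫ (D.obj k.1).hom) (pullback.snd _ _)
    (by rw [Category.assoc]; exact pullback.condition) ⟨pullback.fst _ _, rfl⟩).1 ≫
    Sigma.ι (fun i ↦ (D.obj i).left) k.2

lemma exists_cpTgt : ∃ t : pullback (cpHom D ≫ Sigma.desc f) (Sigma.desc f) ⟶ ∐ fun i ↦ (D.obj i).left,
    ∀ k, cpIncl D k ≫ t = cpVal D k := by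
  refine (existsUnique_glue (cpIncl_isCover D) (cpVal D) ?_).exists
  rintro ⟨i, j⟩ ⟨i', j'⟩ T a b e
  have e₁ := congrArg (· ≫ pullback.fst _ _) e
  have e₂ := congrArg (· ≫ pullback.snd _ _) e
  simp only [cpIncl, Category.assoc, pullback.lift_fst, pullback.lift_snd] at e₁ e₂
  by_cases hi : i = i'
  · subst hi
    by_cases hj : j = j'
    · subst hj
      haveI : IsOpenImmersion (Sigma.ι (fun i ↦ (D.obj i).left) i) := (sigmaOpenCover _).map_prop _
      haveI : IsOpenImmersion (Sigma.ι X j) := (sigmaOpenCover _).map_prop _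
      rw [← Category.assoc, ← Category.assoc, cancel_mono] at e₁ e₂
      rw [pullback.hom_ext e₁ e₂]
    · have : IsEmpty T := isEmpty_of_commSq_sigmaι_of_ne ⟨(Category.assoc _ _ _).trans
        (e₂.trans (Category.assoc _ _ _).symm)⟩ hj
      exact isInitialOfIsEmpty.hom_ext _ _
  · have : IsEmpty T := isEmpty_of_commSq_sigmaι_of_ne ⟨(Category.assoc _ _ _).trans
      (e₁.trans (Category.assoc _ _ _).symm)⟩ hi
    exact isInitialOfIsEmpty.hom_ext _ _

/-- The transport on the disjoint union. -/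
noncomputable def cpTgt : pullback (cpHom D ≫ Sigma.desc f) (Sigma.desc f) ⟶ ∐ fun i ↦ (D.obj i).left :=
  (exists_cpTgt D).choose

/-- The transport computed on components. -/
lemma cpTgt_spec {T : Scheme.{u}} {i j : ι} (v : T ⟶ (D.obj i).left) (x : T ⟶ X j)
    (h : (v ≫ (D.obj i).hom) ≫ f i = x ≫ f j)
    (h' : (v ≫ Sigma.ι (fun i ↦ (D.obj i).left) i) ≫ cpHom D ≫ Sigma.desc f =
      (x ≫ Sigma.ι X j) ≫ Sigma.desc f) :
    pullback.lift (v ≫ Sigma.ι (fun i ↦ (D.obj i).left) i) (x ≫ Sigma.ι X j) h' ≫ cpTgt D =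
      (D.φ (v ≫ (D.obj i).hom) x h ⟨v, rfl⟩).1 ≫ Sigma.ι (fun i ↦ (D.obj i).left) j := by
  let l : T ⟶ cpPiece D (i, j) := pullback.lift v x (by rw [← h, Category.assoc])
  have hl : pullback.lift _ _ h' = l ≫ cpIncl D (i, j) := by
    apply pullback.hom_ext <;> simp [l, cpIncl]
  rw [hl, Category.assoc, cpTgt, (exists_cpTgt D).choose_spec, cpVal, ← Category.assoc]
  refine congrArg (· ≫ _) (D.φ_natural l _ _ (by rw [Category.assoc]; exact pullback.condition)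
    (v ≫ (D.obj i).hom) x (by simp [l]) (by simp [l]) h ⟨pullback.fst _ _, rfl⟩ ⟨v, rfl⟩
    (by simp [l])).symm

lemma cpTgt_hom : cpTgt D ≫ cpHom D = pullback.snd _ _ :=
  hom_ext (cpIncl_isCover D) fun k ↦ by
    rw [cpTgt, ← Category.assoc, (exists_cpTgt D).choose_spec, cpVal, Category.assoc, cpHom_ι,
      ← Category.assoc, (D.φ _ _ _ _).2, cpIncl, pullback.lift_snd]

lemma cpTgt_self {T : Scheme.{u}} (v : T ⟶ ∐ fun i ↦ (D.obj i).left)
    (h : v ≫ cpHom D ≫ Sigma.desc f = (v ≫ cpHom D) ≫ Sigma.desc f) :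
    pullback.lift v (v ≫ cpHom D) h ≫ cpTgt D = v := by
  refine hom_ext_of_sigma v fun i T' q r e ↦ ?_
  have h1 : (r ≫ Sigma.ι (fun i ↦ (D.obj i).left) i) ≫ cpHom D ≫ Sigma.desc f =
      ((r ≫ (D.obj i).hom) ≫ Sigma.ι X i) ≫ Sigma.desc f := by
    rw [Category.assoc, reassoc_of% cpHom_ι]
    simp only [Category.assoc]
  have hl : q ≫ pullback.lift v (v ≫ cpHom D) h = pullback.lift _ _ h1 := by
    apply pullback.hom_ext
    · simp [e]
    · simp [reassoc_of% e, cpHom_ι]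
  rw [← Category.assoc, hl, cpTgt_spec D r (r ≫ (D.obj i).hom) rfl, D.φ_self, e]

lemma cpTgt_comp {T : Scheme.{u}} (v : T ⟶ ∐ fun i ↦ (D.obj i).left) (x₁ x₂ : T ⟶ ∐ X)
    (h₁ : v ≫ cpHom D ≫ Sigma.desc f = x₁ ≫ Sigma.desc f)
    (h₂ : (pullback.lift v x₁ h₁ ≫ cpTgt D) ≫ cpHom D ≫ Sigma.desc f = x₂ ≫ Sigma.desc f)
    (h : v ≫ cpHom D ≫ Sigma.desc f = x₂ ≫ Sigma.desc f) :
    pullback.lift (pullback.lift v x₁ h₁ ≫ cpTgt D) x₂ h₂ ≫ cpTgt D = pullback.lift v x₂ h ≫ cpTgt D := by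
  refine hom_ext_of_sigma v fun i T' q r e ↦ ?_
  refine hom_ext_of_sigma (q ≫ x₁) fun j T'' q₁ y₁ e₁ ↦ ?_
  refine hom_ext_of_sigma (q₁ ≫ q ≫ x₂) fun k T₃ q₂ y₂ e₂ ↦ ?_
  set Q := q₂ ≫ q₁ ≫ q
  have k0 : Q ≫ v = (q₂ ≫ q₁ ≫ r) ≫ Sigma.ι (fun i ↦ (D.obj i).left) i := by
    simp [Q, e]
  have k1 : Q ≫ x₁ = (q₂ ≫ y₁) ≫ Sigma.ι X j := by simp [Q, e₁]
  have k2 : Q ≫ x₂ = y₂ ≫ Sigma.ι X k := by simp [Q, ← e₂]
  have a1 : ((q₂ ≫ q₁ ≫ r) ≫ (D.obj i).hom) ≫ f i = (q₂ ≫ y₁) ≫ f j := by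
    have := congrArg (Q ≫ ·) h₁
    simpa [reassoc_of% k0, reassoc_of% k1, reassoc_of% cpHom_ι] using this
  have a2 : ((q₂ ≫ q₁ ≫ r) ≫ (D.obj i).hom) ≫ f i = y₂ ≫ f k := by
    have := congrArg (Q ≫ ·) h
    simpa [reassoc_of% k0, reassoc_of% k2, reassoc_of% cpHom_ι] using this
  set w := D.φ ((q₂ ≫ q₁ ≫ r) ≫ (D.obj i).hom) (q₂ ≫ y₁) a1 ⟨q₂ ≫ q₁ ≫ r, rfl⟩
  have hw : Q ≫ pullback.lift v x₁ h₁ ≫ cpTgt D = w.1 ≫ Sigma.ι (fun i ↦ (D.obj i).left) j := by
    have hl : Q ≫ pullback.lift v x₁ h₁ = pullback.lift ((q₂ ≫ q₁ ≫ r) ≫ Sigma.ι (fun i ↦ (D.obj i).left) i)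
        ((q₂ ≫ y₁) ≫ Sigma.ι X j) (by
        have := congrArg (Q ≫ ·) h₁
        simpa [reassoc_of% k0, reassoc_of% k1] using this) := by
      apply pullback.hom_ext
      · rw [Category.assoc, pullback.lift_fst, pullback.lift_fst, k0]
      · rw [Category.assoc, pullback.lift_snd, pullback.lift_snd, k1]
    rw [← Category.assoc, hl, cpTgt_spec D _ _ a1]
  have a3 : (w.1 ≫ (D.obj j).hom) ≫ f j = y₂ ≫ f k := by rw [w.2, ← a1, a2]
  have hL : Q ≫ pullback.lift (pullback.lift v x₁ h₁ ≫ cpTgt D) x₂ h₂ = pullback.lift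
      (w.1 ≫ Sigma.ι (fun i ↦ (D.obj i).left) j) (y₂ ≫ Sigma.ι X k) (by
        simpa [reassoc_of% cpHom_ι] using a3) := by
    apply pullback.hom_ext
    · rw [Category.assoc, pullback.lift_fst, pullback.lift_fst, hw]
    · rw [Category.assoc, pullback.lift_snd, pullback.lift_snd, k2]
  have hR : Q ≫ pullback.lift v x₂ h = pullback.lift
      ((q₂ ≫ q₁ ≫ r) ≫ Sigma.ι (fun i ↦ (D.obj i).left) i) (y₂ ≫ Sigma.ι X k) (by
        simpa [reassoc_of% cpHom_ι] using a2) := by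
    apply pullback.hom_ext
    · rw [Category.assoc, pullback.lift_fst, pullback.lift_fst, k0]
    · rw [Category.assoc, pullback.lift_snd, pullback.lift_snd, k2]
  have hQ : ∀ g : T ⟶ ∐ fun i ↦ (D.obj i).left, q₂ ≫ q₁ ≫ q ≫ g = Q ≫ g := fun g ↦ by simp [Q]
  rw [hQ, hQ, ← Category.assoc Q, ← Category.assoc Q, hL, hR, cpTgt_spec D _ _ a3, cpTgt_spec D _ _ a2]
  refine congrArg (· ≫ _) ?_
  have e3 : ∀ (x₀ : T₃ ⟶ X j) (hx : w.1 ≫ (D.obj j).hom = x₀) (h0 : x₀ ≫ f j = y₂ ≫ f k),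
      (D.φ (w.1 ≫ (D.obj j).hom) y₂ a3 ⟨w.1, rfl⟩).1 = (D.φ x₀ y₂ h0 ⟨w.1, hx⟩).1 := by
    intro x₀ hx h0; subst hx; rfl
  rw [e3 _ w.2 (a1.symm.trans a2)]
  exact congrArg Subtype.val (D.φ_comp _ _ _ a1 (a1.symm.trans a2) _)

/-- The descent datum on the disjoint union. -/
noncomputable def coprodDD : SchDD (Sigma.desc f) where
  obj := Over.mk (cpHom D)
  φ T x₀ x₁ h :=
    { toFun := fun v ↦ ⟨pullback.lift v.1 x₁ ((Category.assoc _ _ _).symm.trans
          ((congrArg (· ≫ Sigma.desc f) v.2).trans h)) ≫ cpTgt D,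
        (Category.assoc _ _ _).trans ((congrArg (_ ≫ ·) (cpTgt_hom D)).trans (pullback.lift_snd _ _ _))⟩
      invFun := fun v ↦ ⟨pullback.lift v.1 x₀ ((Category.assoc _ _ _).symm.trans
          ((congrArg (· ≫ Sigma.desc f) v.2).trans h.symm)) ≫ cpTgt D,
        (Category.assoc _ _ _).trans ((congrArg (_ ≫ ·) (cpTgt_hom D)).trans (pullback.lift_snd _ _ _))⟩
      left_inv := fun v ↦ Subtype.ext (by
        obtain ⟨v, rfl⟩ := v
        refine (cpTgt_comp D _ _ _ _ _ (Category.assoc _ _ _).symm).trans (cpTgt_self D v _))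
      right_inv := fun v ↦ Subtype.ext (by
        obtain ⟨v, rfl⟩ := v
        refine (cpTgt_comp D _ _ _ _ _ (Category.assoc _ _ _).symm).trans (cpTgt_self D v _)) }
  φ_natural T T' g x₀ x₁ h h' v v' hv' := by
    show pullback.lift v'.1 _ _ ≫ _ = g ≫ pullback.lift v.1 x₁ _ ≫ _
    rw [← Category.assoc g]
    refine congrArg (· ≫ cpTgt D) ?_
    apply pullback.hom_ext
    · rw [pullback.lift_fst, Category.assoc, pullback.lift_fst, hv']
    · rw [pullback.lift_snd, Category.assoc, pullback.lift_snd]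
  φ_self T x v := Subtype.ext (by
    obtain ⟨v, rfl⟩ := v
    exact cpTgt_self D v _)
  φ_comp T x₀ x₁ x₂ h₀₁ h₁₂ v := Subtype.ext (cpTgt_comp D _ _ _ _ _ _)

lemma coprod_w (i : ι) : Sigma.ι X i ≫ Sigma.desc f = f i ≫ 𝟙 S :=
  (Sigma.ι_desc _ _).trans (Category.comp_id _).symm

/-- The datum maps to the pullback of its disjoint union. -/
noncomputable def toPullCoprod : D ⟶ (pullDDFam (f := fun _ : PUnit.{1} ↦ Sigma.desc f) (f' := f)
    (α := fun _ ↦ ⟨⟩) (p' := fun i ↦ Sigma.ι X i) coprod_w).obj ((SchDDFam.ofSchDD _).obj (coprodDD D)) :=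
  ⟨fun i ↦ Over.homMk (pullback.lift (Sigma.ι (fun i ↦ (D.obj i).left) i) (D.obj i).hom (cpHom_ι D i))
    (pullback.lift_snd _ _ _), fun T i j x₀ x₁ h v u hu ↦ by
    obtain ⟨v, rfl⟩ := v
    have hu' : u.1 = v ≫ _ := hu
    apply pullback.hom_ext
    · simp only [pullDDFam, pullDDFamObj, Equiv.trans_apply, liftsPullbackEquiv, Equiv.coe_fn_symm_mk,
        Equiv.coe_fn_mk, Over.homMk_left, Category.assoc, pullback.lift_fst]
      refine Eq.trans ?_ (cpTgt_spec D v x₁ h (by simpa [reassoc_of% cpHom_ι] using h))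
      refine congrArg (· ≫ cpTgt D) ?_
      apply pullback.hom_ext
      · refine (pullback.lift_fst _ _ _).trans (Eq.trans ?_ (pullback.lift_fst _ _ _).symm)
        refine (congrArg (· ≫ _) hu').trans ((Category.assoc _ _ _).trans ?_)
        exact congrArg (v ≫ ·) (pullback.lift_fst _ _ _)
      · exact (pullback.lift_snd _ _ _).trans (pullback.lift_snd _ _ _).symm
    · simp only [pullDDFam, pullDDFamObj, Equiv.trans_apply, liftsPullbackEquiv, Equiv.coe_fn_symm_mk,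
        Equiv.coe_fn_mk, Over.homMk_left, Category.assoc, pullback.lift_snd]
      exact (D.φ _ _ _ _).2.symm⟩

instance isIso_toPullCoprod : IsIso (toPullCoprod D) := by
  refine isIso_of_components _ fun i ↦ ?_
  let l := pullback.lift (Sigma.ι (fun i ↦ (D.obj i).left) i) (D.obj i).hom (cpHom_ι D i)
  haveI : IsOpenImmersion (Sigma.ι X i) := (sigmaOpenCover _).map_prop _
  haveI : IsOpenImmersion (l ≫ pullback.fst (cpHom D) (Sigma.ι X i)) := by
    rw [pullback.lift_fst]; exact (sigmaOpenCover _).map_prop _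
  haveI : IsOpenImmersion l := IsOpenImmersion.of_comp l (pullback.fst (cpHom D) (Sigma.ι X i))
  refine (isIso_iff_isOpenImmersion_and_epi_base l).mpr ⟨inferInstance,
    (TopCat.epi_iff_surjective _).mpr fun η ↦ ?_⟩
  obtain ⟨k, v, hv⟩ := exists_mem_range (sigma_isCover (Y := fun i ↦ (D.obj i).left))
    (pullback.fst (cpHom D) (Sigma.ι X i) η)
  have : (Sigma.mk k ((D.obj k).hom v) : Σ k, X k) = Sigma.mk i (pullback.snd (cpHom D) (Sigma.ι X i) η) := by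
    refine (sigmaι_eq_iff X k i _ _).mp ?_
    have e1 := congrArg (fun g ↦ g v) (cpHom_ι D k)
    have e2 := congrArg (fun g ↦ g η) (pullback.condition (f := cpHom D) (g := Sigma.ι X i))
    simp only [Scheme.Hom.comp_apply] at e1 e2
    exact (e1.symm.trans ((congrArg (cpHom D) hv).trans e2))
  obtain ⟨rfl, -⟩ := Sigma.mk.inj this
  refine ⟨v, (pullback.fst (cpHom D) (Sigma.ι X k)).isOpenEmbedding.injective ?_⟩
  rw [← Scheme.Hom.comp_apply, pullback.lift_fst]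
  exact hv

/-- Effectivity of the disjoint union implies effectivity. -/
theorem isEffective_of_coprod
    (h : ∃ U : Over S, Nonempty ((toDD (Sigma.desc f)).obj U ≅ coprodDD D)) : D.IsEffective := by
  obtain ⟨U, ⟨e⟩⟩ := h
  obtain ⟨U', ⟨e'⟩⟩ := isEffective_pull (f := fun _ : PUnit.{1} ↦ Sigma.desc f) (f' := f)
    (p' := fun i ↦ Sigma.ι X i) coprod_w
    ((SchDDFam.ofSchDD _).obj (coprodDD D)) ⟨U, ⟨(SchDDFam.ofSchDD _).mapIso e⟩⟩
  exact ⟨U', ⟨e' ≪≫ (asIso (toPullCoprod D)).symm⟩⟩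

end Groth.Agent.SchDescent
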