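import Groth.Agent.SchDescent.SelfMap

/-!
# Descent data on a disjoint union are descent data on the family
-/

set_option autoImplicit false
set_option backward.isDefEq.respectTransparency false
set_option backward.isDefEq.respectTransparency.types false

universe w u

open CategoryTheory CategoryTheory.Limits AlgebraicGeometry Desc

namespace Groth.Agent.SchDescent

variable {S : Scheme.{u}} {ι : Type u} {X : ι → Scheme.{u}} {f : ∀ i, X i ⟶ S}
variable (D : SchDDFam f)

/-- The datum maps to the pullback of its disjoint union. -/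
noncomputable def toPullCoprod' : D ⟶ (pullDDFam (f := fun _ : PUnit.{u + 1} ↦ Sigma.desc f) (f' := f)
    (α := fun _ ↦ ⟨⟩) (p' := fun i ↦ Sigma.ι X i) coprod_w).obj ((SchDDFam.ofSchDD _).obj (coprodDD D)) :=
  ⟨fun i ↦ Over.homMk (pullback.lift (Sigma.ι (fun i ↦ (D.obj i).left) i) (D.obj i).hom (cpHom_ι D i))
    (pullback.lift_snd _ _ _), fun T i j x₀ x₁ h v u hu ↦ by
    obtain ⟨v, rfl⟩ := v
    have hu' : u.1 = v ≫ _ := hu
    apply pullback.hom_ext
    · simp only [pullDDFam, pullDDFamObj, Equiv.trans_apply, liftsPullbackEquiv, Equiv.coe_fn_symm_mk,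
        Equiv.coe_fn_mk, Over.homMk_left, Category.assoc, pullback.lift_fst]
      refine Eq.trans ?_ (cpTgt_spec D v x₁ h (by simpa [reassoc_of% cpHom_ι] using h))
      refine congrArg (· ≫ cpTgt D) ?_
      apply pullback.hom_ext
      · refine (pullback.lift_fst _ _ _).trans (Eq.trans ?_ (pullback.lift_fst _ _ _).symm)
        refine (congrArg (· ≫ _) hu').trans ((Category.assoc _ _ _).trans ?_)
        exact congrArg (v ≫ ·) (pullback.lift_fst _ _ _)
      · exact (pullback.lift_snd _ _ _).trans (pullback.lift_snd _ _ _).symm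
    · simp only [pullDDFam, pullDDFamObj, Equiv.trans_apply, liftsPullbackEquiv, Equiv.coe_fn_symm_mk,
        Equiv.coe_fn_mk, Over.homMk_left, Category.assoc, pullback.lift_snd]
      exact (D.φ _ _ _ _).2.symm⟩

instance isIso_toPullCoprod' : IsIso (toPullCoprod' D) := by
  refine isIso_of_components _ fun i ↦ ?_
  let l := pullback.lift (Sigma.ι (fun i ↦ (D.obj i).left) i) (D.obj i).hom (cpHom_ι D i)
  haveI : IsOpenImmersion (Sigma.ι X i) := (sigmaOpenCover _).map_prop _
  haveI : IsOpenImmersion (l ≫ pullback.fst (cpHom D) (Sigma.ι X i)) := by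
    rw [pullback.lift_fst]; exact (sigmaOpenCover _).map_prop _
  haveI : IsOpenImmersion l := IsOpenImmersion.of_comp l (pullback.fst (cpHom D) (Sigma.ι X i))
  refine (isIso_iff_isOpenImmersion_and_epi_base l).mpr ⟨inferInstance,
    (TopCat.epi_iff_surjective _).mpr fun η ↦ ?_⟩
  obtain ⟨k, v, hv⟩ := exists_mem_range (sigma_isCover (Y := fun i ↦ (D.obj i).left))
    (pullback.fst (cpHom D) (Sigma.ι X i) η)
  have : (Sigma.mk k ((D.obj k).hom v) : Σ k, X k) = Sigma.mk i (pullback.snd (cpHom D) (Sigma.ι X i) η) := by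
    refine (sigmaι_eq_iff X k i _ _).mp ?_
    have e1 := congrArg (fun g ↦ g v) (cpHom_ι D k)
    have e2 := congrArg (fun g ↦ g η) (pullback.condition (f := cpHom D) (g := Sigma.ι X i))
    simp only [Scheme.Hom.comp_apply] at e1 e2
    exact (e1.symm.trans ((congrArg (cpHom D) hv).trans e2))
  obtain ⟨rfl, -⟩ := Sigma.mk.inj this
  refine ⟨v, (pullback.fst (cpHom D) (Sigma.ι X k)).isOpenEmbedding.injective ?_⟩
  rw [← Scheme.Hom.comp_apply, pullback.lift_fst]
  exact hv

/-- Descent data on the disjoint union are descent data on the family. -/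
theorem coprod_isEquivalence :
    (SchDDFam.ofSchDD.{u} (Sigma.desc f) ⋙ pullDDFam (f := fun _ : PUnit.{u + 1} ↦ Sigma.desc f) (f' := f)
      (α := fun _ ↦ PUnit.unit) (p := 𝟙 S) (p' := fun i ↦ Sigma.ι X i) coprod_w).IsEquivalence := by
  have hR : Refines (fun _ : PUnit.{u + 1} ↦ Sigma.desc f) f := fun _ ↦
    ⟨ι, X, fun i ↦ Sigma.ι X i, sigma_isCover, fun i ↦ ⟨i, 𝟙 _, by rw [Category.id_comp, Sigma.ι_desc]⟩⟩
  haveI h1 := pullDDFam_full (α := fun _ : ι ↦ PUnit.unit.{u + 1}) (coprod_w (f := f)) hR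
  haveI h2 := pullDDFam_faithful (α := fun _ : ι ↦ PUnit.unit.{u + 1}) (coprod_w (f := f)) hR
  haveI : (pullDDFam (f := fun _ : PUnit.{u + 1} ↦ Sigma.desc f) (f' := f)
      (α := fun _ ↦ PUnit.unit) (p := 𝟙 S) (p' := fun i ↦ Sigma.ι X i) coprod_w).EssSurj :=
    ⟨fun D ↦ ⟨(SchDDFam.ofSchDD _).obj (coprodDD D), ⟨(asIso (toPullCoprod' D)).symm⟩⟩⟩
  haveI : (SchDDFam.ofSchDD.{u} (Sigma.desc f)).IsEquivalence :=
    (SchDDFam.oneEquiv.{u} (Sigma.desc f)).isEquivalence_inverse
  haveI : (pullDDFam (f := fun _ : PUnit.{u + 1} ↦ Sigma.desc f) (f' := f)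
      (α := fun _ ↦ PUnit.unit) (p := 𝟙 S) (p' := fun i ↦ Sigma.ι X i) coprod_w).IsEquivalence :=
    ⟨inferInstance, inferInstance, inferInstance⟩
  infer_instance

end Groth.Agent.SchDescent
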