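import Groth.Agent.SchDescent.Morphisms
import Mathlib.AlgebraicGeometry.Gluing

/-!
# Descent data covered by effective open pieces are effective
-/

set_option autoImplicit false
set_option backward.isDefEq.respectTransparency false
set_option backward.isDefEq.respectTransparency.types false

universe w u

open CategoryTheory CategoryTheory.Limits AlgebraicGeometry Desc

namespace Groth.Agent.SchDescent

variable {S : Scheme.{u}} {ι : Type w} {X : ι → Scheme.{u}} {f : ∀ i, X i ⟶ S} {D : SchDDFam f}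

/-- The underlying morphisms of a morphism out of a canonical descent datum. -/
noncomputable abbrev cm {W : Over S} (c : (toDDFam f).obj W ⟶ D) (i : ι) :
    pullback (f i) W.hom ⟶ (D.obj i).left :=
  (c.hom i).left

@[reassoc]
lemma cm_hom {W : Over S} (c : (toDDFam f).obj W ⟶ D) (i : ι) :
    cm c i ≫ (D.obj i).hom = pullback.fst (f i) W.hom :=
  Over.w (c.hom i)

lemma cm_map_comp {W W' : Over S} (h : W ⟶ W') (c : (toDDFam f).obj W' ⟶ D) (i : ι) :
    cm ((toDDFam f).map h ≫ c) i =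
      pullback.map (f i) W.hom (f i) W'.hom (𝟙 _) h.left (𝟙 S) (by simp) (by simp) ≫ cm c i :=
  rfl

lemma cm_φ {W : Over S} (c : (toDDFam f).obj W ⟶ D) {T : Scheme.{u}} {i j : ι} {x₀ : T ⟶ X i}
    {x₁ : T ⟶ X j} (h : x₀ ≫ f i = x₁ ≫ f j) (v : Lifts (D.obj i) x₀)
    (s : T ⟶ pullback (f i) W.hom) (s' : T ⟶ pullback (f j) W.hom) (hv : v.1 = s ≫ cm c i)
    (hs' : s' ≫ pullback.fst (f j) W.hom = x₁)
    (he : s ≫ pullback.snd (f i) W.hom = s' ≫ pullback.snd (f j) W.hom) :
    (D.φ x₀ x₁ h v).1 = s' ≫ cm c j := by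
  have hs : s ≫ pullback.fst (f i) W.hom = x₀ := by rw [← v.2, hv, Category.assoc, cm_hom]
  have key := c.comm x₀ x₁ h ⟨s, hs⟩ v hv
  rw [key]
  refine congrArg (· ≫ cm c j) ?_
  apply pullback.hom_ext
  · simp [toDDFam, canonicalDDFam, hs']
  · simp [toDDFam, canonicalDDFam, he]

lemma mono_of_isOpenImmersion {W : Over S} (c : (toDDFam f).obj W ⟶ D)
    [∀ i, IsOpenImmersion (cm c i)] {E : SchDDFam f} {a b : E ⟶ (toDDFam f).obj W}
    (h : a ≫ c = b ≫ c) : a = b := by
  ext i : 3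
  rw [← cancel_mono (cm c i)]
  exact congrArg (fun d : E ⟶ D ↦ (d.hom i).left) h

variable (hf : IsCover f)

include hf in
lemma hom_unique {W U : Over S} (c : (toDDFam f).obj U ⟶ D) [∀ i, IsOpenImmersion (cm c i)]
    {h h' : W ⟶ U} (e : (toDDFam f).map h ≫ c = (toDDFam f).map h' ≫ c) : h = h' :=
  have := toDDFam_faithful hf
  (toDDFam f).map_injective (mono_of_isOpenImmersion c e)

include hf in
lemma exists_lift {W U : Over S} (c : (toDDFam f).obj W ⟶ D) (a : (toDDFam f).obj U ⟶ D)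
    [∀ i, IsOpenImmersion (cm a i)] (hr : ∀ i, Set.range (cm c i) ⊆ Set.range (cm a i)) :
    ∃ h : W ⟶ U, (toDDFam f).map h ≫ a = c := by
  have := toDDFam_full hf
  let l : ∀ i, pullback (f i) W.hom ⟶ pullback (f i) U.hom := fun i ↦
    IsOpenImmersion.lift (cm a i) (cm c i) (hr i)
  have hl : ∀ i, l i ≫ cm a i = cm c i := fun i ↦ IsOpenImmersion.lift_fac _ _ _
  have hl' : ∀ i, l i ≫ pullback.fst (f i) U.hom = pullback.fst (f i) W.hom := fun i ↦ by
    rw [← cm_hom a, reassoc_of% hl, cm_hom]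
  let b : (toDDFam f).obj W ⟶ (toDDFam f).obj U := ⟨fun i ↦ Over.homMk (l i) (hl' i), by
    intro T i j x₀ x₁ h v u hu
    have hu' : u.1 = v.1 ≫ l i := hu
    rw [← cancel_mono (cm a j)]
    have h1 := c.comm x₀ x₁ h v ⟨u.1 ≫ cm a i, by rw [Category.assoc, cm_hom]; exact u.2⟩
      (by show u.1 ≫ cm a i = v.1 ≫ cm c i; rw [hu', Category.assoc, hl])
    have h2 := a.comm x₀ x₁ h u ⟨u.1 ≫ cm a i, by rw [Category.assoc, cm_hom]; exact u.2⟩ rfl
    refine h2.symm.trans (h1.trans ?_)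
    show _ = (_ ≫ l j) ≫ cm a j
    rw [Category.assoc, hl]⟩
  obtain ⟨h, hh⟩ := (toDDFam f).map_surjective b
  refine ⟨h, ?_⟩
  rw [hh]
  ext i : 3
  exact hl i

variable {κ : Type u} {U : κ → Over S} (a : ∀ k, (toDDFam f).obj (U k) ⟶ D)
  [∀ k i, IsOpenImmersion (cm (a k) i)]

/-- Overlap upstairs. -/
noncomputable def pre (k l : κ) (i : ι) : (pullback (f i) (U k).hom).Opens :=
  cm (a k) i ⁻¹ᵁ (cm (a l) i).opensRange

/-- Overlap downstairs, as a set. -/
def overlapSet (k l : κ) : Set (U k).left :=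
  {u | ∃ i, ∃ ξ ∈ pre a k l i, pullback.snd (f i) (U k).hom ξ = u}

lemma mem_pre_of_mem {k l : κ} {j : ι} {η : ↥(pullback (f j) (U k).hom)}
    (h : pullback.snd (f j) (U k).hom η ∈ overlapSet a k l) : η ∈ pre a k l j := by
  obtain ⟨i, ξ, hξ, he⟩ := h
  obtain ⟨z, hz₁, hz₂⟩ := Scheme.Pullback.exists_preimage_pullback ξ η he
  set r₁ := pullback.fst (pullback.snd (f i) (U k).hom) (pullback.snd (f j) (U k).hom)
  set r₂ := pullback.snd (pullback.snd (f i) (U k).hom) (pullback.snd (f j) (U k).hom)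
  let O : (pullback (pullback.snd (f i) (U k).hom) (pullback.snd (f j) (U k).hom)).Opens :=
    r₁ ⁻¹ᵁ pre a k l i
  have hzO : z ∈ O := show r₁ z ∈ pre a k l i by rw [hz₁]; exact hξ
  let s := O.ι ≫ r₁
  let s' := O.ι ≫ r₂
  have hss : s ≫ pullback.snd (f i) (U k).hom = s' ≫ pullback.snd (f j) (U k).hom := by
    simp only [s, s', Category.assoc]
    exact congrArg (O.ι ≫ ·) pullback.condition
  have hrange : Set.range (s ≫ cm (a k) i) ⊆ Set.range (cm (a l) i) := by
    rintro _ ⟨t, rfl⟩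
    exact t.2
  let t := IsOpenImmersion.lift (cm (a l) i) (s ≫ cm (a k) i) hrange
  have ht : t ≫ cm (a l) i = s ≫ cm (a k) i := IsOpenImmersion.lift_fac _ _ _
  have ht' : t ≫ pullback.fst (f i) (U l).hom = s ≫ pullback.fst (f i) (U k).hom := by
    rw [← cm_hom (a l), reassoc_of% ht, cm_hom]
  have hS : (s ≫ pullback.fst (f i) (U k).hom) ≫ f i = (s' ≫ pullback.fst (f j) (U k).hom) ≫ f j := by
    simp only [Category.assoc, pullback.condition, reassoc_of% hss]
  have hl : (s' ≫ pullback.fst (f j) (U k).hom) ≫ f j =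
      (t ≫ pullback.snd (f i) (U l).hom) ≫ (U l).hom := by
    rw [← hS, ← ht']
    simp only [Category.assoc, pullback.condition]
  let t' := pullback.lift (s' ≫ pullback.fst (f j) (U k).hom) (t ≫ pullback.snd (f i) (U l).hom) hl
  let v : Lifts (D.obj i) (s ≫ pullback.fst (f i) (U k).hom) :=
    ⟨s ≫ cm (a k) i, by rw [Category.assoc, cm_hom]⟩
  have e₁ := cm_φ (a k) hS v s s' rfl rfl hss
  have e₂ := cm_φ (a l) hS v t t' ht.symm (pullback.lift_fst _ _ _) (pullback.lift_snd _ _ _).symm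
  refine ⟨t' ⟨z, hzO⟩, ?_⟩
  have := congrArg (fun q ↦ q ⟨z, hzO⟩) (e₁.symm.trans e₂)
  show cm (a l) j (t' ⟨z, hzO⟩) = cm (a k) j η
  rw [← hz₂]
  exact this.symm

include hf in
lemma isOpen_overlapSet (k l : κ) : IsOpen (overlapSet a k l) := by
  refine isOpen_of_preimage (isCover_of_isPullback hf (p₂ := fun i ↦ pullback.fst (f i) (U k).hom)
    fun i ↦ (IsPullback.of_hasPullback (f i) (U k).hom).flip) fun i ↦ ?_
  convert (pre a k l i).2
  ext η
  exact ⟨fun h ↦ mem_pre_of_mem a h, fun h ↦ ⟨i, η, h, rfl⟩⟩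

/-- Overlap downstairs. -/
noncomputable def overlap (k l : κ) : (U k).left.Opens := ⟨overlapSet a k l, isOpen_overlapSet hf a k l⟩

/-- An open piece over the base. -/
noncomputable abbrev sub (W : Over S) (O : W.left.Opens) : Over S := Over.mk (O.ι ≫ W.hom)

/-- Its inclusion. -/
noncomputable abbrev subι (W : Over S) (O : W.left.Opens) : sub W O ⟶ W := Over.homMk O.ι rfl

/-- The morphism of an open piece. -/
noncomputable abbrev subHom (k : κ) (O : (U k).left.Opens) : (toDDFam f).obj (sub (U k) O) ⟶ D :=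
  (toDDFam f).map (subι (U k) O) ≫ a k

omit [∀ k i, IsOpenImmersion (cm (a k) i)] in
lemma mapι_snd (k : κ) (O : (U k).left.Opens) (i : ι) (ξ : ↥(pullback (f i) (sub (U k) O).hom)) :
    (pullback.snd (f i) (U k).hom)
      (pullback.map (f i) (sub (U k) O).hom (f i) (U k).hom (𝟙 _) O.ι (𝟙 S) (by simp) (by simp) ξ) =
      O.ι (pullback.snd (f i) (sub (U k) O).hom ξ) := by
  rw [← Scheme.Hom.comp_apply, pullback.lift_snd, Scheme.Hom.comp_apply]
  rfl

include hf in
lemma exists_transition (k l : κ) :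
    ∃ h : sub (U k) (overlap hf a k l) ⟶ U l, IsOpenImmersion h.left ∧
      (toDDFam f).map h ≫ a l = subHom a k (overlap hf a k l) := by
  have step : ∀ k l : κ, ∃ h : sub (U k) (overlap hf a k l) ⟶ U l,
      (toDDFam f).map h ≫ a l = subHom a k (overlap hf a k l) ∧
      ∀ u, h.left u ∈ overlap hf a l k := by
    intro k l
    obtain ⟨h, hh⟩ := exists_lift hf (subHom a k (overlap hf a k l)) (a l) (fun i ↦ by
      rintro _ ⟨ξ, rfl⟩
      rw [cm_map_comp, Scheme.Hom.comp_apply]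
      refine mem_pre_of_mem a (k := k) (l := l) ?_
      refine Eq.mpr (congrArg (· ∈ overlapSet a k l) (mapι_snd k _ i ξ)) ?_
      exact (pullback.snd (f i) (sub (U k) (overlap hf a k l)).hom ξ).2)
    refine ⟨h, hh, fun u ↦ ?_⟩
    obtain ⟨i, ξ₀, -, hξ₀⟩ := u.2
    obtain ⟨i', ξ, hξ⟩ := exists_mem_range (isCover_of_isPullback hf
      (p₁ := fun i ↦ pullback.snd (f i) (sub (U k) (overlap hf a k l)).hom)
      fun i ↦ (IsPullback.of_hasPullback (f i) _).flip) u
    let m := pullback.map (f i') (sub (U k) (overlap hf a k l)).hom (f i') (U l).hom (𝟙 _) h.left (𝟙 S)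
      (by simp) (by simp)
    refine ⟨i', m ξ, ?_, ?_⟩
    · refine ⟨pullback.map (f i') (sub (U k) (overlap hf a k l)).hom (f i') (U k).hom (𝟙 _)
        (overlap hf a k l).ι (𝟙 S) (by simp) (by simp) ξ, ?_⟩
      rw [← Scheme.Hom.comp_apply, ← Scheme.Hom.comp_apply]
      exact congrArg (fun c : (toDDFam f).obj (sub (U k) (overlap hf a k l)) ⟶ D ↦ cm c i' ξ) hh.symm
    · rw [← Scheme.Hom.comp_apply, pullback.lift_snd, Scheme.Hom.comp_apply, hξ]
  obtain ⟨h, hh, hmem⟩ := step k l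
  obtain ⟨g, hg, gmem⟩ := step l k
  have lift : ∀ {k l : κ} (h : sub (U k) (overlap hf a k l) ⟶ U l),
      (∀ u, h.left u ∈ overlap hf a l k) →
      ∃ h' : sub (U k) (overlap hf a k l) ⟶ sub (U l) (overlap hf a l k), h' ≫ subι _ _ = h := by
    intro k l h hm
    refine ⟨Over.homMk (IsOpenImmersion.lift (overlap hf a l k).ι h.left
      (by rintro _ ⟨u, rfl⟩; exact ⟨⟨_, hm u⟩, rfl⟩)) ?_, ?_⟩
    · show _ ≫ (overlap hf a l k).ι ≫ (U l).hom = _
      rw [IsOpenImmersion.lift_fac_assoc]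
      exact Over.w h
    · ext : 1
      exact IsOpenImmersion.lift_fac _ _ _
  obtain ⟨h', rfl⟩ := lift h hmem
  obtain ⟨g', rfl⟩ := lift g gmem
  have hsubmono : ∀ (k : κ) (O : (U k).left.Opens) {Z : Over S} {p q : Z ⟶ sub (U k) O},
      p ≫ subι (U k) O = q ≫ subι (U k) O → p = q := fun k O Z p q e ↦ by
    ext : 1
    rw [← cancel_mono O.ι]
    exact congrArg CommaMorphism.left e
  have inv : ∀ {k l : κ} (h' : sub (U k) (overlap hf a k l) ⟶ sub (U l) (overlap hf a l k))
      (g' : sub (U l) (overlap hf a l k) ⟶ sub (U k) (overlap hf a k l)),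
      (toDDFam f).map (h' ≫ subι _ _) ≫ a l = subHom a k _ →
      (toDDFam f).map (g' ≫ subι _ _) ≫ a k = subHom a l _ → h' ≫ g' = 𝟙 _ := by
    intro k l h' g' hh hg
    refine hsubmono _ _ ?_
    refine hom_unique hf (a k) ?_
    rw [Category.assoc, Functor.map_comp, Category.assoc, hg, Category.id_comp]
    refine Eq.trans ?_ hh
    rw [subHom, Functor.map_comp, Category.assoc]
  have : IsIso h' := ⟨g', inv h' g' hh hg, inv g' h' hg hh⟩
  have : IsIso h'.left := inferInstanceAs (IsIso ((Over.forget S).map h'))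
  exact ⟨h' ≫ subι _ _, inferInstanceAs (IsOpenImmersion (h'.left ≫ (overlap hf a l k).ι)), hh⟩

/-- Pieces. -/
abbrev Piece (U : κ → Over S) : Type u := Σ k : κ, (U k).left.Opens

/-- The scheme of a piece. -/
noncomputable abbrev Piece.obj (p : Piece U) : Over S := sub (U p.1) p.2

/-- The order on pieces. -/
noncomputable abbrev piecePreorder : Preorder (Piece U) where
  le p q := ∃ h : Piece.obj p ⟶ Piece.obj q, IsOpenImmersion h.left ∧
    (toDDFam f).map h ≫ subHom a q.1 q.2 = subHom a p.1 p.2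
  le_refl p := ⟨𝟙 _, by rw [Over.id_left]; infer_instance, by simp⟩
  le_trans p q r := fun ⟨h, h₁, h₂⟩ ⟨g, g₁, g₂⟩ ↦
    ⟨h ≫ g, inferInstanceAs (IsOpenImmersion (h.left ≫ g.left)),
      by rw [Functor.map_comp, Category.assoc, g₂, h₂]⟩

include hf in
lemma piece_hom_unique {W : Over S} {q : Piece U} {h h' : W ⟶ Piece.obj q}
    (e : (toDDFam f).map h ≫ subHom a q.1 q.2 = (toDDFam f).map h' ≫ subHom a q.1 q.2) : h = h' := by
  have : h ≫ subι _ q.2 = h' ≫ subι _ q.2 := hom_unique hf (a q.1) (by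
    simpa only [Functor.map_comp, Category.assoc] using e)
  ext : 1
  rw [← cancel_mono q.2.ι]
  exact congrArg CommaMorphism.left this

set_option maxHeartbeats 800000 in
include hf in
/-- A descent datum covered by effective open pieces is effective. -/
theorem isEffective_of_cover (hcov : ∀ i (v : (D.obj i).left), ∃ k, v ∈ Set.range (cm (a k) i)) :
    D.IsEffective := by
  letI := piecePreorder a
  let F₀ : Piece U ⥤ Over S :=
    { obj := Piece.obj
      map := fun h ↦ (leOfHom h).choose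
      map_id := fun p ↦ piece_hom_unique hf a (by
        rw [(leOfHom (𝟙 p)).choose_spec.2]; simp)
      map_comp := fun {p q r} h g ↦ piece_hom_unique hf a (by
        rw [(leOfHom (h ≫ g)).choose_spec.2, Functor.map_comp, Category.assoc,
          (leOfHom g).choose_spec.2, (leOfHom h).choose_spec.2]) }
  have hmap : ∀ {p q : Piece U} (h : p ⟶ q),
      (toDDFam f).map (F₀.map h) ≫ subHom a q.1 q.2 = subHom a p.1 p.2 :=
    fun h ↦ (leOfHom h).choose_spec.2
  let F : Piece U ⥤ Scheme.{u} := F₀ ⋙ Over.forget S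
  haveI hoF : ∀ {p q : Piece U} (h : p ⟶ q), IsOpenImmersion (F.map h) :=
    fun h ↦ (leOfHom h).choose_spec.1
  haveI : (F ⋙ Scheme.forget).IsLocallyDirected := by
    constructor
    intro p q r hp hq x y hxy
    let W : r.2.toScheme.Opens := (F.map hp).opensRange ⊓ (F.map hq).opensRange
    let O' : (U p.1).left.Opens := p.2.ι ''ᵁ (F.map hp ⁻¹ᵁ W)
    have hO' : O' ≤ p.2 := by rintro _ ⟨z, -, rfl⟩; exact z.2
    let i₁ : Piece.obj ⟨p.1, O'⟩ ⟶ Piece.obj p :=
      Over.homMk ((U p.1).left.homOfLE hO') (Scheme.homOfLE_ι_assoc _ hO' _)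
    have hi₁ : i₁ ≫ subι _ p.2 = subι _ O' := by
      ext : 1; exact Scheme.homOfLE_ι _ hO'
    have hd₁ : (⟨p.1, O'⟩ : Piece U) ≤ p :=
      ⟨i₁, inferInstanceAs (IsOpenImmersion ((U p.1).left.homOfLE hO')), by
        rw [← Category.assoc, ← Functor.map_comp, hi₁]⟩
    have hr₁ : Set.range (i₁.left ≫ F.map hp) ⊆ Set.range (F.map hq) := by
      rintro _ ⟨z, rfl⟩
      obtain ⟨z', hz', he⟩ := z.2
      have : i₁.left z = z' := p.2.ι.isOpenEmbedding.injective (by
        refine (Scheme.Hom.comp_apply _ _ _).symm.trans ?_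
        exact (congrArg (fun g ↦ g z) (Scheme.homOfLE_ι _ hO')).trans he.symm)
      rw [Scheme.Hom.comp_apply, this]
      exact hz'.2
    let l := IsOpenImmersion.lift (F.map hq) (i₁.left ≫ F.map hp) hr₁
    have hl : l ≫ F.map hq = i₁.left ≫ F.map hp := IsOpenImmersion.lift_fac _ _ _
    let i₂ : Piece.obj ⟨p.1, O'⟩ ⟶ Piece.obj q := Over.homMk l (by
      rw [← Over.w (F₀.map hq), ← Over.w i₁, ← Over.w (F₀.map hp)]
      exact (reassoc_of% hl) _)
    have hi₂ : i₂ ≫ F₀.map hq = i₁ ≫ F₀.map hp := by ext : 1; exact hl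
    have : IsOpenImmersion (l ≫ F.map hq) := by
      rw [hl]
      exact inferInstanceAs (IsOpenImmersion ((U p.1).left.homOfLE hO' ≫ F.map hp))
    have hd₂ : (⟨p.1, O'⟩ : Piece U) ≤ q := by
      refine ⟨i₂, IsOpenImmersion.of_comp l (F.map hq), ?_⟩
      rw [← hmap hq, ← Category.assoc, ← Functor.map_comp, hi₂, Functor.map_comp, Category.assoc,
        hmap hp, ← Category.assoc, ← Functor.map_comp, hi₁]
    have hx : p.2.ι x ∈ O' := ⟨x, ⟨⟨x, rfl⟩, ⟨y, hxy.symm⟩⟩, rfl⟩
    refine ⟨⟨p.1, O'⟩, homOfLE hd₁, homOfLE hd₂, ⟨p.2.ι x, hx⟩, ?_, ?_⟩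
    · have e : F₀.map (homOfLE hd₁) = i₁ := piece_hom_unique hf a (by
        rw [hmap, ← Category.assoc, ← Functor.map_comp, hi₁])
      show (F₀.map (homOfLE hd₁)).left ⟨p.2.ι x, hx⟩ = x
      rw [e]
      refine p.2.ι.isOpenEmbedding.injective ?_
      refine (Scheme.Hom.comp_apply _ _ _).symm.trans ?_
      show ((U p.1).left.homOfLE hO' ≫ p.2.ι) _ = _
      rw [Scheme.homOfLE_ι]
      rfl
    · have e : F₀.map (homOfLE hd₂) ≫ F₀.map hq = F₀.map (homOfLE hd₁) ≫ F₀.map hp := by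
        rw [← F₀.map_comp, ← F₀.map_comp]
      have hx' : (F.map (homOfLE hd₁)) ⟨p.2.ι x, hx⟩ = x := by
        have e' : F₀.map (homOfLE hd₁) = i₁ := piece_hom_unique hf a (by
          rw [hmap, ← Category.assoc, ← Functor.map_comp, hi₁])
        show (F₀.map (homOfLE hd₁)).left ⟨p.2.ι x, hx⟩ = x
        rw [e']
        refine p.2.ι.isOpenEmbedding.injective ?_
        refine (Scheme.Hom.comp_apply _ _ _).symm.trans ?_
        show ((U p.1).left.homOfLE hO' ≫ p.2.ι) _ = _
        rw [Scheme.homOfLE_ι]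
        rfl
      refine (F.map hq).isOpenEmbedding.injective ?_
      refine Eq.trans ?_ hxy
      refine (Scheme.Hom.comp_apply _ _ _).symm.trans ?_
      refine (congrArg (fun g : Piece.obj ⟨p.1, O'⟩ ⟶ Piece.obj r ↦ g.left ⟨p.2.ι x, hx⟩) e).trans ?_
      show F.map hp (F.map (homOfLE hd₁) _) = _
      rw [hx']
      rfl
  let c : Cocone F :=
    { pt := S
      ι := { app := fun p ↦ (Piece.obj p).hom
             naturality := fun p q h ↦ (Over.w (F₀.map h)).trans (Category.comp_id _).symm } }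
  let W : Over S := Over.mk (colimit.desc F c)
  let q : ∀ p : Piece U, Piece.obj p ⟶ W := fun p ↦ Over.homMk (colimit.ι F p) (colimit.ι_desc c p)
  have hq : ∀ {p p' : Piece U} (h : p ⟶ p'), F₀.map h ≫ q p' = q p := fun h ↦ by
    ext : 1; exact colimit.w F h
  let P : ∀ (i : ι) (p : Piece U), pullback (f i) (Piece.obj p).hom ⟶ pullback (f i) W.hom := fun i p ↦
    (((toDDFam f).map (q p)).hom i).left
  have hP : ∀ i p, IsPullback (P i p) (pullback.snd (f i) (Piece.obj p).hom)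
      (pullback.snd (f i) W.hom) (colimit.ι F p) := fun i p ↦ by
    refine IsPullback.of_right ?_ (pullback.lift_snd _ _ _) (IsPullback.of_hasPullback (f i) W.hom)
    have h1 : P i p ≫ pullback.fst (f i) W.hom = pullback.fst (f i) (Piece.obj p).hom :=
      Over.w (((toDDFam f).map (q p)).hom i)
    have h2 : colimit.ι F p ≫ W.hom = (Piece.obj p).hom := colimit.ι_desc c p
    rw [h1, h2]
    exact IsPullback.of_hasPullback _ _
  haveI hPo : ∀ i p, IsOpenImmersion (P i p) := fun i p ↦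
    MorphismProperty.of_isPullback (P := @IsOpenImmersion) (hP i p).flip inferInstance
  have hPr : ∀ i p, Set.range (P i p) = pullback.snd (f i) W.hom ⁻¹' Set.range (colimit.ι F p) := by
    intro i p
    refine Set.Subset.antisymm ?_ fun η hη ↦ ?_
    · rintro _ ⟨ξ, rfl⟩
      exact ⟨pullback.snd (f i) (Piece.obj p).hom ξ,
        (congrArg (fun g : pullback (f i) (Piece.obj p).hom ⟶ W.left ↦ g ξ) (hP i p).w).symm⟩
    · obtain ⟨u, hu⟩ := hη
      obtain ⟨ξ, hξ, -⟩ := Scheme.exists_preimage_of_isPullback (hP i p) η u hu.symm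
      exact ⟨ξ, hξ⟩
  have hPc : ∀ i, IsCover (P i) := fun i ↦ isCover_of_openCover (hPo i) fun η ↦ by
    obtain ⟨p, x, hx⟩ := Scheme.IsLocallyDirected.ι_jointly_surjective F (pullback.snd (f i) W.hom η)
    exact ⟨p, (hPr i p).symm ▸ ⟨x, hx⟩⟩
  -- the glued morphism
  have hm : ∀ i, ∃ m : pullback (f i) W.hom ⟶ (D.obj i).left,
      ∀ p, P i p ≫ m = cm (subHom a p.1 p.2) i := fun i ↦ by
    refine (existsUnique_glue (hPc i) (fun p ↦ cm (subHom a p.1 p.2) i) ?_).exists
    intro p p' T s s' hss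
    let O : {d : Piece U // d ≤ p ∧ d ≤ p'} → T.Opens := fun d ↦
      (s ≫ P i p ≫ pullback.snd (f i) W.hom) ⁻¹ᵁ (colimit.ι F d.1).opensRange
    refine hom_ext (isCover_of_openCover (z := fun d ↦ (O d).ι) (fun _ ↦ inferInstance) ?_) fun d ↦ ?_
    · intro t
      have e : colimit.ι F p (pullback.snd (f i) _ (s t)) =
          colimit.ι F p' (pullback.snd (f i) _ (s' t)) := by
        exact ((congrArg (fun g : pullback (f i) (Piece.obj p).hom ⟶ W.left ↦ g (s t)) (hP i p).w).symm.trans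
          (congrArg (fun g : T ⟶ pullback (f i) W.hom ↦ pullback.snd (f i) W.hom (g t)) hss)).trans
          (congrArg (fun g : pullback (f i) (Piece.obj p').hom ⟶ W.left ↦ g (s' t)) (hP i p').w)
      obtain ⟨d, h₁, h₂, x, hx, -⟩ := (Scheme.IsLocallyDirected.ι_eq_ι_iff (F := F)).mp e
      refine ⟨⟨d, leOfHom h₁, leOfHom h₂⟩, ?_⟩
      rw [Scheme.Opens.range_ι]
      refine ⟨x, ?_⟩
      show colimit.ι F d x = pullback.snd (f i) W.hom (P i p (s t))
      rw [← colimit.w F h₁, Scheme.Hom.comp_apply, hx]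
      exact (congrArg (fun g : pullback (f i) (Piece.obj p).hom ⟶ W.left ↦ g (s t)) (hP i p).w).symm
    · obtain ⟨d, hd₁, hd₂⟩ := d
      let σ := (O ⟨d, hd₁, hd₂⟩).ι ≫ s ≫ P i p
      have hσr : Set.range σ ⊆ Set.range (P i d) := by
        rw [hPr]
        rintro _ ⟨t, rfl⟩
        exact t.2
      let τ := IsOpenImmersion.lift (P i d) σ hσr
      have hτ : τ ≫ P i d = σ := IsOpenImmersion.lift_fac _ _ _
      have comp : ∀ {p : Piece U} (hd : d ≤ p) (s : T ⟶ pullback (f i) (Piece.obj p).hom),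
          σ = (O ⟨d, hd₁, hd₂⟩).ι ≫ s ≫ P i p →
          (O ⟨d, hd₁, hd₂⟩).ι ≫ s ≫ cm (subHom a p.1 p.2) i = τ ≫ cm (subHom a d.1 d.2) i := by
        intro p hd s hs
        have e : (O ⟨d, hd₁, hd₂⟩).ι ≫ s =
            τ ≫ (((toDDFam f).map (F₀.map (homOfLE hd))).hom i).left := by
          rw [← cancel_mono (P i p), Category.assoc, ← hs, Category.assoc]
          refine hτ.symm.trans (congrArg (τ ≫ ·) ?_)
          show (((toDDFam f).map (q d)).hom i).left = _
          rw [← hq (homOfLE hd), Functor.map_comp]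
          rfl
        rw [reassoc_of% e]
        refine congrArg (τ ≫ ·) ?_
        exact congrArg (fun c : (toDDFam f).obj (Piece.obj d) ⟶ D ↦ cm c i) (hmap (homOfLE hd))
      rw [comp hd₁ s rfl, comp hd₂ s' (congrArg ((O ⟨d, hd₁, hd₂⟩).ι ≫ ·) hss)]
  choose m hm using hm
  have hover : ∀ i, m i ≫ (D.obj i).hom = pullback.fst (f i) W.hom := fun i ↦ hom_ext (hPc i) fun p ↦ by
    rw [reassoc_of% hm i p, cm_hom]
    exact (Over.w (((toDDFam f).map (q p)).hom i)).symm
  let M : (toDDFam f).obj W ⟶ D := ⟨fun i ↦ Over.homMk (m i) (hover i), by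
    intro T i j x₀ x₁ h v u hu
    refine hom_ext (isCover_pullback (hPc i) v.1) fun p ↦ ?_
    set g := pullback.fst v.1 (P i p)
    set r := pullback.snd v.1 (P i p)
    have hgr : g ≫ v.1 = r ≫ P i p := pullback.condition
    have hsnd : ∀ j, P j p ≫ pullback.snd (f j) W.hom =
        pullback.snd (f j) (Piece.obj p).hom ≫ colimit.ι F p := fun j ↦ (hP j p).w
    have hfst : ∀ j, P j p ≫ pullback.fst (f j) W.hom = pullback.fst (f j) (Piece.obj p).hom :=
      fun j ↦ Over.w (((toDDFam f).map (q p)).hom j)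
    have hv : (g ≫ x₀) = r ≫ pullback.fst (f i) (Piece.obj p).hom := by
      rw [← hfst, ← reassoc_of% hgr]
      exact congrArg (g ≫ ·) v.2.symm
    have h' : (g ≫ x₀) ≫ f i = (g ≫ x₁) ≫ f j := by rw [Category.assoc, h, Category.assoc]
    have hr : (g ≫ x₁) ≫ f j = (r ≫ pullback.snd (f i) (Piece.obj p).hom) ≫ (Piece.obj p).hom := by
      rw [← h', hv, Category.assoc, pullback.condition, Category.assoc]
    let r' := pullback.lift (g ≫ x₁) (r ≫ pullback.snd (f i) (Piece.obj p).hom) hr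
    let u' : Lifts (D.obj i) (g ≫ x₀) := ⟨g ≫ u.1, by rw [Category.assoc, u.2]⟩
    have e₁ := D.φ_natural g x₀ x₁ h (g ≫ x₀) (g ≫ x₁) rfl rfl h' u u' rfl
    have e₂ := cm_φ (subHom a p.1 p.2) h' u' r r' (by
      show g ≫ u.1 = _
      rw [hu]
      show g ≫ v.1 ≫ m i = _
      rw [reassoc_of% hgr, hm]) (pullback.lift_fst _ _ _) (pullback.lift_snd _ _ _).symm
    rw [← e₁, e₂, ← hm j p]
    have e₃ : g ≫ (((toDDFam f).obj W).φ x₀ x₁ h v).1 = r' ≫ P j p := by
      apply pullback.hom_ext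
      · simp only [toDDFam, canonicalDDFam, Category.assoc]
        rw [show P j p ≫ pullback.fst (f j) W.hom = _ from hfst j, pullback.lift_fst]
        simp
      · rw [Category.assoc (f := r'), hsnd, pullback.lift_snd_assoc, Category.assoc, Category.assoc, ← hsnd]
        simp only [toDDFam, canonicalDDFam, Equiv.coe_fn_mk, canMapFam_val, pullback.lift_snd]
        rw [reassoc_of% hgr]
    show r' ≫ P j p ≫ m j = g ≫ (((toDDFam f).obj W).φ x₀ x₁ h v).1 ≫ m j
    rw [reassoc_of% e₃]⟩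
  -- it is an isomorphism
  let top : κ → Piece U := fun k ↦ ⟨k, ⊤⟩
  have hinj : ∀ i, Function.Injective (m i) := by
    intro i η η' he
    obtain ⟨p, u, hu⟩ := Scheme.IsLocallyDirected.ι_jointly_surjective F (pullback.snd (f i) W.hom η)
    obtain ⟨p', u', hu'⟩ := Scheme.IsLocallyDirected.ι_jointly_surjective F (pullback.snd (f i) W.hom η')
    obtain ⟨ξ, hξ, hξu⟩ := Scheme.exists_preimage_of_isPullback (hP i p) η u hu.symm
    obtain ⟨ξ', hξ', hξu'⟩ := Scheme.exists_preimage_of_isPullback (hP i p') η' u' hu'.symm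
    have hv : cm (subHom a p.1 p.2) i ξ = cm (subHom a p'.1 p'.2) i ξ' := by
      rw [← hm, ← hm, Scheme.Hom.comp_apply, Scheme.Hom.comp_apply, hξ, hξ', he]
    -- the overlap piece
    have hover' : p.2.ι u ∈ overlap hf a p.1 p'.1 := by
      refine ⟨i, pullback.map (f i) (Piece.obj p).hom (f i) (U p.1).hom (𝟙 _) p.2.ι (𝟙 S)
        (by simp) (by simp) ξ, ⟨pullback.map (f i) (Piece.obj p').hom (f i) (U p'.1).hom (𝟙 _) p'.2.ι
        (𝟙 S) (by simp) (by simp) ξ', ?_⟩, ?_⟩
      · rw [← Scheme.Hom.comp_apply, ← Scheme.Hom.comp_apply]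
        exact hv.symm
      · rw [mapι_snd, hξu]
    obtain ⟨h, ho, hh⟩ := exists_transition hf a p.1 p'.1
    let O' : (U p.1).left.Opens := p.2 ⊓ (overlap hf a p.1 p'.1).ι ''ᵁ (h.left ⁻¹ᵁ p'.2)
    have hOl : O' ≤ overlap hf a p.1 p'.1 := by rintro _ ⟨-, z, -, rfl⟩; exact z.2
    let j₀ : sub (U p.1) O' ⟶ sub (U p.1) (overlap hf a p.1 p'.1) :=
      Over.homMk ((U p.1).left.homOfLE hOl) (Scheme.homOfLE_ι_assoc _ hOl _)
    have hj₀ : j₀ ≫ subι _ _ = subι _ O' := by ext : 1; exact Scheme.homOfLE_ι _ hOl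
    have hrange : Set.range (j₀.left ≫ h.left) ⊆ Set.range p'.2.ι := by
      rw [Scheme.Opens.range_ι]
      rintro _ ⟨z, rfl⟩
      obtain ⟨-, z', hz', he'⟩ := z.2
      have : j₀.left z = z' := (overlap hf a p.1 p'.1).ι.isOpenEmbedding.injective (by
        refine (Scheme.Hom.comp_apply _ _ _).symm.trans ?_
        exact (congrArg (fun g ↦ g z) (Scheme.homOfLE_ι _ hOl)).trans he'.symm)
      rw [Scheme.Hom.comp_apply, this]
      exact hz'
    let l := IsOpenImmersion.lift p'.2.ι (j₀.left ≫ h.left) hrange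
    let i₂ : sub (U p.1) O' ⟶ Piece.obj p' := Over.homMk l (by
      show l ≫ p'.2.ι ≫ (U p'.1).hom = _
      rw [IsOpenImmersion.lift_fac_assoc, Category.assoc, Over.w h]
      exact Over.w j₀)
    have hi₂ : i₂ ≫ subι _ p'.2 = j₀ ≫ h := by ext : 1; exact IsOpenImmersion.lift_fac _ _ _
    let i₁ : sub (U p.1) O' ⟶ Piece.obj p :=
      Over.homMk ((U p.1).left.homOfLE (inf_le_left : O' ≤ p.2)) (Scheme.homOfLE_ι_assoc _ (inf_le_left : O' ≤ p.2) _)
    have hi₁ : i₁ ≫ subι _ p.2 = subι _ O' := by ext : 1; exact Scheme.homOfLE_ι _ (inf_le_left : O' ≤ p.2)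
    have hd₁ : (⟨p.1, O'⟩ : Piece U) ≤ p := ⟨i₁, inferInstanceAs
      (IsOpenImmersion ((U p.1).left.homOfLE (inf_le_left : O' ≤ p.2))), by
        rw [← Category.assoc, ← Functor.map_comp, hi₁]⟩
    have hd₂ : (⟨p.1, O'⟩ : Piece U) ≤ p' := by
      refine ⟨i₂, ?_, ?_⟩
      · have : IsOpenImmersion (l ≫ p'.2.ι) := by
          rw [IsOpenImmersion.lift_fac]
          exact inferInstanceAs (IsOpenImmersion ((U p.1).left.homOfLE hOl ≫ h.left))
        exact IsOpenImmersion.of_comp l p'.2.ι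
      · rw [← Category.assoc, ← Functor.map_comp, hi₂, Functor.map_comp, Category.assoc, hh,
          ← Category.assoc, ← Functor.map_comp, hj₀]
    set d : Piece U := ⟨p.1, O'⟩
    have hcmE : ∀ {p : Piece U} (hd : d ≤ p),
        (((toDDFam f).map (F₀.map (homOfLE hd))).hom i).left ≫ cm (subHom a p.1 p.2) i =
          cm (subHom a d.1 d.2) i := fun hd ↦
      congrArg (fun c : (toDDFam f).obj (Piece.obj d) ⟶ D ↦ cm c i) (hmap (homOfLE hd))
    have hPE : ∀ {p : Piece U} (hd : d ≤ p),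
        (((toDDFam f).map (F₀.map (homOfLE hd))).hom i).left ≫ P i p = P i d := fun {p} hd ↦ by
      show _ = (((toDDFam f).map (q d)).hom i).left
      rw [← hq (homOfLE hd), Functor.map_comp]
      rfl
    have hu₂ : h.left ⟨p.2.ι u, hover'⟩ ∈ p'.2 := by
      -- image of the point lies in the second piece
      let Ψ := pullback.map (f i) (Piece.obj p).hom (f i) (U p.1).hom (𝟙 _) p.2.ι (𝟙 S)
        (by simp) (by simp)
      let Ξ := pullback.map (f i) (sub (U p.1) (overlap hf a p.1 p'.1)).hom (f i) (U p.1).hom (𝟙 _)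
        (overlap hf a p.1 p'.1).ι (𝟙 S) (by simp) (by simp)
      obtain ⟨ζ, hζ, hζu⟩ : ∃ ζ, Ξ ζ = Ψ ξ ∧
          pullback.snd (f i) (sub (U p.1) (overlap hf a p.1 p'.1)).hom ζ = ⟨p.2.ι u, hover'⟩ := by
        have hpb : IsPullback Ξ (pullback.snd (f i) (sub (U p.1) (overlap hf a p.1 p'.1)).hom)
            (pullback.snd (f i) (U p.1).hom) (overlap hf a p.1 p'.1).ι := by
          refine IsPullback.of_right ?_ (pullback.lift_snd _ _ _)
            (IsPullback.of_hasPullback (f i) (U p.1).hom)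
          rw [pullback.lift_fst, Category.comp_id]
          exact IsPullback.of_hasPullback _ _
        exact Scheme.exists_preimage_of_isPullback hpb (Ψ ξ) ⟨p.2.ι u, hover'⟩ (by rw [mapι_snd, hξu]; rfl)
      let Θ := pullback.map (f i) (sub (U p.1) (overlap hf a p.1 p'.1)).hom (f i) (U p'.1).hom (𝟙 _)
        h.left (𝟙 S) (by simp) (by simp)
      let Ψ' := pullback.map (f i) (Piece.obj p').hom (f i) (U p'.1).hom (𝟙 _) p'.2.ι (𝟙 S)
        (by simp) (by simp)
      have h1 : cm (a p'.1) i (Θ ζ) = cm (a p.1) i (Ξ ζ) := by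
        rw [← Scheme.Hom.comp_apply, ← Scheme.Hom.comp_apply]
        exact congrArg (fun c : (toDDFam f).obj (sub (U p.1) (overlap hf a p.1 p'.1)) ⟶ D ↦ cm c i ζ) hh
      have h2 : cm (a p.1) i (Ψ ξ) = cm (a p'.1) i (Ψ' ξ') := by
        rw [← Scheme.Hom.comp_apply, ← Scheme.Hom.comp_apply]
        exact hv
      have h3 : Θ ζ = Ψ' ξ' :=
        (cm (a p'.1) i).isOpenEmbedding.injective (h1.trans (by rw [hζ]; exact h2))
      have h4 := congrArg (pullback.snd (f i) (U p'.1).hom) h3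
      rw [mapι_snd, ← Scheme.Hom.comp_apply, pullback.lift_snd, Scheme.Hom.comp_apply, hζu] at h4
      rw [h4]
      exact (pullback.snd (f i) (Piece.obj p').hom ξ').2
    have hud : p.2.ι u ∈ O' := ⟨u.2, ⟨p.2.ι u, hover'⟩, hu₂, rfl⟩
    have hdu : (F₀.map (homOfLE hd₁)).left ⟨p.2.ι u, hud⟩ = u := by
      have e' : F₀.map (homOfLE hd₁) = i₁ := piece_hom_unique hf a (by
        rw [hmap, ← Category.assoc, ← Functor.map_comp, hi₁])
      rw [e']
      refine p.2.ι.isOpenEmbedding.injective ?_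
      refine (Scheme.Hom.comp_apply _ _ _).symm.trans ?_
      show ((U p.1).left.homOfLE (inf_le_left : O' ≤ p.2) ≫ p.2.ι) _ = _
      rw [Scheme.homOfLE_ι]
      rfl
    obtain ⟨ζ, hζ, -⟩ := Scheme.exists_preimage_of_isPullback (hP i d) η ⟨p.2.ι u, hud⟩
      (hu.symm.trans ((congrArg (colimit.ι F p) hdu).symm.trans
        (congrArg (fun g : Piece.obj d ⟶ W ↦ g.left ⟨p.2.ι u, hud⟩) (hq (homOfLE hd₁)))))
    have hE₁ : (((toDDFam f).map (F₀.map (homOfLE hd₁))).hom i).left ζ = ξ :=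
      (P i p).isOpenEmbedding.injective ((Scheme.Hom.comp_apply _ _ _).symm.trans
        ((congrArg (fun g : pullback (f i) (Piece.obj d).hom ⟶ pullback (f i) W.hom ↦ g ζ) (hPE hd₁)).trans
          (hζ.trans hξ.symm)))
    haveI : IsOpenImmersion (cm (subHom a p'.1 p'.2) i) := by
      rw [cm_map_comp]
      haveI : IsOpenImmersion (pullback.map (f i) (Piece.obj p').hom (f i) (U p'.1).hom (𝟙 _)
          (subι (U p'.1) p'.2).left (𝟙 S) (by simp) (by simp)) :=
        inferInstanceAs (IsOpenImmersion (pullback.map (f i) (Piece.obj p').hom (f i) (U p'.1).hom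
          (𝟙 _) p'.2.ι (𝟙 S) (by simp) (by simp)))
      infer_instance
    have hE₂ : (((toDDFam f).map (F₀.map (homOfLE hd₂))).hom i).left ζ = ξ' :=
      (cm (subHom a p'.1 p'.2) i).isOpenEmbedding.injective ((Scheme.Hom.comp_apply _ _ _).symm.trans
        ((congrArg (fun g : pullback (f i) (Piece.obj d).hom ⟶ (D.obj i).left ↦ g ζ) (hcmE hd₂)).trans
          (((congrArg (fun g : pullback (f i) (Piece.obj d).hom ⟶ (D.obj i).left ↦ g ζ) (hcmE hd₁)).symm.trans
            (congrArg (cm (subHom a p.1 p.2) i) hE₁)).trans hv)))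
    exact hζ.symm.trans ((congrArg (fun g : pullback (f i) (Piece.obj d).hom ⟶ pullback (f i) W.hom ↦ g ζ)
      (hPE hd₂)).symm.trans ((congrArg (P i p') hE₂).trans hξ'))
  have hopenImm : ∀ i, IsOpenImmersion (m i) := by
    intro i
    haveI hPm : ∀ p, IsOpenImmersion (P i p ≫ m i) := fun p ↦ by
      rw [hm, cm_map_comp]
      haveI : IsOpenImmersion (pullback.map (f i) (Piece.obj p).hom (f i) (U p.1).hom (𝟙 _)
          (subι (U p.1) p.2).left (𝟙 S) (by simp) (by simp)) :=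
        inferInstanceAs (IsOpenImmersion (pullback.map (f i) (Piece.obj p).hom (f i) (U p.1).hom
          (𝟙 _) p.2.ι (𝟙 S) (by simp) (by simp)))
      infer_instance
    rw [IsOpenImmersion.iff_isIso_stalkMap]
    refine ⟨.of_continuous_injective_isOpenMap (m i).continuous (hinj i) fun s hs ↦ ?_, fun η ↦ ?_⟩
    · have : m i '' s = ⋃ p, (P i p ≫ m i) '' (P i p ⁻¹' s) := by
        refine Set.Subset.antisymm ?_ (Set.iUnion_subset fun p ↦ ?_)
        · rintro _ ⟨η, hη, rfl⟩
          obtain ⟨p, ξ, rfl⟩ := exists_mem_range (hPc i) η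
          exact Set.mem_iUnion.mpr ⟨p, ξ, hη, rfl⟩
        · rintro _ ⟨ξ, hξ, rfl⟩
          exact ⟨_, hξ, rfl⟩
      rw [this]
      exact isOpen_iUnion fun p ↦ (P i p ≫ m i).isOpenEmbedding.isOpenMap _ (hs.preimage (P i p).continuous)
    · obtain ⟨p, ξ, rfl⟩ := exists_mem_range (hPc i) η
      have h1 : IsIso ((P i p ≫ m i).stalkMap ξ) := inferInstance
      rw [Scheme.Hom.stalkMap_comp] at h1
      exact IsIso.of_isIso_comp_right ((m i).stalkMap (P i p ξ)) ((P i p).stalkMap ξ)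
  have hsurj : ∀ i, Function.Surjective (m i) := by
    intro i v
    obtain ⟨k, ξ, rfl⟩ := hcov i v
    let Ψ := pullback.map (f i) (Piece.obj (top k)).hom (f i) (U k).hom (𝟙 _)
      (⊤ : (U k).left.Opens).ι (𝟙 S) (by simp) ((Category.comp_id _).trans rfl)
    haveI : IsIso (⊤ : (U k).left.Opens).ι := inferInstanceAs (IsIso (U k).left.topIso.hom)
    haveI : IsIso Ψ := pullback.map_isIso ..
    obtain ⟨ξ', rfl⟩ := (Scheme.Hom.homeomorph Ψ).surjective ξ
    exact ⟨P i (top k) ξ',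
      congrArg (fun g : pullback (f i) (Piece.obj (top k)).hom ⟶ (D.obj i).left ↦ g ξ') (hm i (top k))⟩
  haveI : ∀ i, IsIso (m i) := fun i ↦ by
    have := hopenImm i
    exact (isIso_iff_isOpenImmersion_and_epi_base (m i)).mpr
      ⟨inferInstance, (TopCat.epi_iff_surjective _).mpr (hsurj i)⟩
  have hinv : ∀ i, inv (m i) ≫ pullback.fst (f i) W.hom = (D.obj i).hom := fun i ↦ by
    rw [IsIso.inv_comp_eq, hover]
  let N : D ⟶ (toDDFam f).obj W := ⟨fun i ↦ Over.homMk (inv (m i)) (hinv i), by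
    intro T i j x₀ x₁ h v w hw
    have hw' : w.1 = v.1 ≫ inv (m i) := hw
    have key := M.comm x₀ x₁ h w v (show v.1 = w.1 ≫ m i by simp [hw'])
    show _ = _ ≫ inv (m j)
    rw [key]
    show _ = (_ ≫ m j) ≫ inv (m j)
    simp⟩
  exact ⟨W, ⟨{ hom := M
               inv := N
               hom_inv_id := by ext i : 3; exact IsIso.hom_inv_id (m i)
               inv_hom_id := by ext i : 3; exact IsIso.inv_hom_id (m i) }⟩⟩

end Groth.Agent.SchDescent
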