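import Groth.Agent.FpqcDescent.Specialization
import Groth.Prelude.Def_Desc
import Mathlib.AlgebraicGeometry.Morphisms.QuasiSeparated
import Mathlib.AlgebraicGeometry.Morphisms.Affine
import Mathlib.AlgebraicGeometry.QuasiAffine

/-!
# Orbits of a descent datum for schemes
-/

set_option autoImplicit false
set_option backward.isDefEq.respectTransparency false
set_option backward.isDefEq.respectTransparency.types false

universe u

open CategoryTheory CategoryTheory.Limits AlgebraicGeometry Desc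

namespace Groth.Agent.SchDescent

variable {X S : Scheme.{u}} {p : X ⟶ S} (D : SchDD p)

/-- The structure map to the base. -/
noncomputable abbrev toBase : D.obj.left ⟶ S := D.obj.hom ≫ p

/-- Transport of a point of the datum to another point of `X`. -/
noncomputable def trans {T : Scheme.{u}} (w : T ⟶ D.obj.left) (x : T ⟶ X)
    (h : w ≫ toBase D = x ≫ p) : T ⟶ D.obj.left :=
  (D.φ (w ≫ D.obj.hom) x (by rw [Category.assoc]; exact h) ⟨w, rfl⟩).1

variable {T T' : Scheme.{u}} {w : T ⟶ D.obj.left} {x : T ⟶ X} (h : w ≫ toBase D = x ≫ p)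

@[reassoc]
lemma trans_hom : trans D w x h ≫ D.obj.hom = x := (D.φ _ _ _ _).2

lemma trans_base : trans D w x h ≫ toBase D = x ≫ p := by rw [trans_hom_assoc]

lemma φ_eq_trans {x₀ : T ⟶ X} (h' : x₀ ≫ p = x ≫ p) (v : Lifts D.obj x₀) :
    (D.φ x₀ x h' v).1 = trans D v.1 x ((Category.assoc _ _ _).symm.trans ((congrArg (· ≫ p) v.2).trans h')) := by
  obtain ⟨v, rfl⟩ := v
  rfl

lemma trans_natural (g : T' ⟶ T) {x' : T' ⟶ X} (hx : g ≫ x = x')
    (h' : (g ≫ w) ≫ toBase D = x' ≫ p) :
    g ≫ trans D w x h = trans D (g ≫ w) x' h' := by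
  subst hx
  have := D.φ_natural g (w ≫ D.obj.hom) x (by rw [Category.assoc]; exact h)
    (by rw [Category.assoc, Category.assoc, Category.assoc]; exact congrArg (g ≫ ·) h) ⟨w, rfl⟩
    ⟨g ≫ w, Category.assoc _ _ _⟩ rfl
  refine this.symm.trans ?_
  exact φ_eq_trans D _ _

lemma trans_congr {w' : T ⟶ D.obj.left} {x' : T ⟶ X} (e : w = w') (e' : x = x') :
    trans D w x h = trans D w' x' (e ▸ e' ▸ h) := by
  subst e e'; rfl

lemma trans_self (w : T ⟶ D.obj.left) {x : T ⟶ X} (e : w ≫ D.obj.hom = x) :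
    trans D w x (by rw [← e, Category.assoc]) = w := by
  subst e
  unfold trans
  rw [D.φ_self]

lemma trans_trans {x' : T ⟶ X} (h' : trans D w x h ≫ toBase D = x' ≫ p) :
    trans D (trans D w x h) x' h' =
      trans D w x' (h.trans ((trans_base D h).symm.trans h')) := by
  have e := congrArg Subtype.val (D.φ_comp (w ≫ D.obj.hom) x x'
    (by rw [Category.assoc]; exact h) ((trans_base D h).symm.trans h') ⟨w, rfl⟩)
  rw [φ_eq_trans] at e
  exact e

/-- The pairs (point of the datum, point of `X`) over the same point of the base. -/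
noncomputable abbrev Rel : Scheme.{u} := pullback (toBase D) p

/-- Source. -/
noncomputable abbrev src : Rel D ⟶ D.obj.left := pullback.fst _ _

/-- Target. -/
noncomputable def tgt : Rel D ⟶ D.obj.left :=
  trans D (pullback.fst _ _) (pullback.snd _ _) pullback.condition

lemma lift_tgt : pullback.lift w x h ≫ tgt D = trans D w x h := by
  unfold tgt
  rw [trans_natural D pullback.condition _ (pullback.lift_snd _ _ _)
    (by simp only [pullback.lift_fst, h])]
  exact trans_congr D _ (pullback.lift_fst _ _ _) rfl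

/-- The involution. -/
noncomputable def swap : Rel D ⟶ Rel D :=
  pullback.lift (tgt D) (src D ≫ D.obj.hom) (by
    rw [tgt, trans_base, Category.assoc]; exact pullback.condition.symm)

lemma swap_src : swap D ≫ src D = tgt D := pullback.lift_fst _ _ _

lemma swap_tgt : swap D ≫ tgt D = src D := by
  rw [swap, lift_tgt]
  unfold tgt
  rw [trans_trans, trans_self D _ rfl]

lemma swap_swap : swap D ≫ swap D = 𝟙 _ := by
  apply pullback.hom_ext
  · rw [Category.assoc, swap_src, swap_tgt, Category.id_comp]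
  · rw [Category.id_comp]
    conv_lhs => rw [Category.assoc]
    rw [swap, pullback.lift_snd]
    show swap D ≫ src D ≫ D.obj.hom = _
    rw [← Category.assoc, swap_src, tgt, trans_hom]

lemma flat_tgt [Flat p] : Flat (tgt D) := by
  have : IsIso (swap D) := ⟨swap D, swap_swap D, swap_swap D⟩
  rw [← swap_src]
  infer_instance

/-- The orbit relation on points. -/
def Orb (a b : D.obj.left) : Prop := ∃ ρ : ↥(Rel D), src D ρ = a ∧ tgt D ρ = b

lemma Orb.symm {a b : D.obj.left} (hab : Orb D a b) : Orb D b a := by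
  obtain ⟨ρ, rfl, rfl⟩ := hab
  exact ⟨swap D ρ, by rw [← Scheme.Hom.comp_apply, swap_src], by rw [← Scheme.Hom.comp_apply, swap_tgt]⟩

lemma Orb.comp {a b c : D.obj.left} (hab : Orb D a b) (hbc : Orb D b c) : Orb D a c := by
  obtain ⟨ρ, rfl, rfl⟩ := hab
  obtain ⟨ρ', hρ', rfl⟩ := hbc
  obtain ⟨η, hη, hη'⟩ := Scheme.Pullback.exists_preimage_pullback (f := tgt D) (g := src D) ρ ρ' hρ'.symm
  let m : pullback (tgt D) (src D) ⟶ Rel D :=
    pullback.lift (pullback.fst _ _ ≫ src D) (pullback.snd _ _ ≫ pullback.snd _ _) (by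
      have e : tgt D ≫ toBase D = src D ≫ toBase D :=
        (trans_base D pullback.condition).trans pullback.condition.symm
      rw [Category.assoc, ← e, ← Category.assoc, pullback.condition, Category.assoc, Category.assoc,
        pullback.condition])
  refine ⟨m η, ?_, ?_⟩
  · rw [← Scheme.Hom.comp_apply, pullback.lift_fst, Scheme.Hom.comp_apply, hη]
  · rw [← hη', ← Scheme.Hom.comp_apply, ← Scheme.Hom.comp_apply]
    refine congrArg (fun g : pullback (tgt D) (src D) ⟶ D.obj.left ↦ g η) ?_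
    rw [lift_tgt]
    have h0 : (pullback.fst (tgt D) (src D) ≫ src D) ≫ toBase D =
        (pullback.fst (tgt D) (src D) ≫ pullback.snd _ _) ≫ p := by
      rw [Category.assoc, Category.assoc, pullback.condition]
    have e1 : pullback.snd (tgt D) (src D) ≫ src D = trans D (pullback.fst _ _ ≫ src D) _ h0 := by
      rw [← pullback.condition]
      exact trans_natural D pullback.condition _ rfl h0
    have h1 : (pullback.snd (tgt D) (src D) ≫ src D) ≫ toBase D =
        (pullback.snd (tgt D) (src D) ≫ pullback.snd _ _) ≫ p := by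
      rw [Category.assoc, Category.assoc, pullback.condition]
    refine Eq.trans ?_ (trans_natural D pullback.condition _ rfl h1).symm
    rw [trans_congr D h1 e1 rfl, trans_trans]

lemma range_trans_subset {s t : Set D.obj.left} (hs : Set.range w ⊆ s)
    (hst : ∀ a b, a ∈ s → Orb D a b → b ∈ t) : Set.range (trans D w x h) ⊆ t := by
  rintro _ ⟨y, rfl⟩
  refine hst (w y) _ (hs ⟨y, rfl⟩) ⟨pullback.lift w x h y, ?_, ?_⟩
  · rw [← Scheme.Hom.comp_apply, pullback.lift_fst]
  · rw [← Scheme.Hom.comp_apply, lift_tgt]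

variable [IsAffine X] [IsAffine S]

/-- The orbit of a quasi-compact open is contained in a quasi-compact open. -/
theorem exists_orbit_open (U : D.obj.left.Opens) (hU : IsCompact (U : Set D.obj.left)) :
    ∃ U' : D.obj.left.Opens, IsCompact (U' : Set D.obj.left) ∧
      ∀ a b, a ∈ U → Orb D a b → b ∈ U' := by
  have hc : IsCompact (tgt D '' (src D ⁻¹' (U : Set D.obj.left))) :=
    ((src D).isCompact_preimage hU).image (tgt D).continuous
  choose N hN hmem using fun v : D.obj.left ↦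
    show ∃ N : D.obj.left.Opens, IsAffineOpen N ∧ v ∈ N by
      obtain ⟨_, ⟨N, hN, rfl⟩, hv, -⟩ :=
        D.obj.left.isBasis_affineOpens.exists_subset_of_mem_open (Set.mem_univ v) isOpen_univ
      exact ⟨N, hN, hv⟩
  obtain ⟨t, ht⟩ := hc.elim_finite_subcover (fun v ↦ (N v : Set D.obj.left)) (fun v ↦ (N v).2)
    fun v _ ↦ Set.mem_iUnion.mpr ⟨v, hmem v⟩
  refine ⟨⨆ v ∈ t, N v, ?_, fun a b ha hab ↦ ?_⟩
  · rw [TopologicalSpace.Opens.coe_iSup]
    simp only [TopologicalSpace.Opens.coe_iSup]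
    exact t.finite_toSet.isCompact_biUnion fun v _ ↦ (hN v).isCompact
  · obtain ⟨ρ, hρ, rfl⟩ := hab
    obtain ⟨v, hv, hv'⟩ := Set.mem_iUnion₂.mp (ht ⟨ρ, show src D ρ ∈ U from hρ ▸ ha, rfl⟩)
    exact TopologicalSpace.Opens.mem_iSup.mpr ⟨v, TopologicalSpace.Opens.mem_iSup.mpr ⟨hv, hv'⟩⟩

omit [IsAffine X] [IsAffine S] in
/-- Quasi-compact opens quasi-affine implies quasi-separated. -/
theorem quasiSeparatedSpace_of_forall {V : Scheme.{u}}
    (hV : ∀ U : V.Opens, IsCompact (U : Set V) → Scheme.IsQuasiAffine (U : Scheme.{u})) :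
    QuasiSeparatedSpace V := by
  refine quasiSeparatedSpace_iff_forall_affineOpens.mpr fun A B ↦ ?_
  have hW : IsCompact ((A.1 ⊔ B.1 : V.Opens) : Set V) := by
    rw [TopologicalSpace.Opens.coe_sup]; exact A.2.isCompact.union B.2.isCompact
  haveI := hV _ hW
  haveI : CompactSpace ((A.1 ⊔ B.1 : V.Opens) : Scheme.{u}) := isCompact_iff_compactSpace.mp hW
  have hq : IsQuasiSeparated ((A.1 ⊔ B.1 : V.Opens) : Set V) :=
    (isQuasiSeparated_iff_quasiSeparatedSpace _ (A.1 ⊔ B.1 : V.Opens).2).mpr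
      (inferInstanceAs (QuasiSeparatedSpace ((A.1 ⊔ B.1 : V.Opens) : Scheme.{u})))
  exact hq _ _ Set.subset_union_left A.1.2 A.2.isCompact Set.subset_union_right B.1.2 B.2.isCompact

variable [Flat p]

/-- An orbit-stable open between a quasi-compact open and the open containing its orbit. -/
theorem exists_stable_open [QuasiSeparatedSpace D.obj.left] {U U₁ U₂ : D.obj.left.Opens}
    (hU₂ : IsCompact (U₂ : Set D.obj.left)) (h₁ : ∀ a b, a ∈ U → Orb D a b → b ∈ U₁)
    (h₂ : ∀ a b, a ∈ U₁ → Orb D a b → b ∈ U₂) :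
    ∃ O : D.obj.left.Opens, U ≤ O ∧ O ≤ U₁ ∧ ∀ a b, a ∈ O → Orb D a b → b ∈ O := by
  have hU : ∀ {a}, a ∈ U → a ∈ U₁ := fun {a} ha ↦ h₁ a a ha ⟨pullback.lift (𝟙 _) D.obj.hom
    (Category.id_comp _) a, by rw [← Scheme.Hom.comp_apply, pullback.lift_fst]; rfl,
    by rw [← Scheme.Hom.comp_apply, lift_tgt, trans_self D _ (Category.id_comp _)]; rfl⟩
  let R₂ := src D ⁻¹ᵁ U₂
  haveI : CompactSpace R₂.toScheme :=
    isCompact_iff_compactSpace.mp ((src D).isCompact_preimage hU₂)
  let Z : TopologicalSpace.Closeds R₂.toScheme :=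
    ⟨{ρ | src D (R₂.ι ρ) ∉ U₁}, (U₁.2.isClosed_compl.preimage (src D).continuous).preimage R₂.ι.continuous⟩
  let I := Scheme.IdealSheafData.vanishingIdeal Z
  haveI : CompactSpace I.subscheme := I.subschemeι.isClosedEmbedding.compactSpace
  let g := I.subschemeι ≫ R₂.ι ≫ tgt D
  haveI : QuasiCompact g := quasiCompact_of_compactSpace g
  have hmem : ∀ {b}, b ∈ Set.range g ↔ ∃ a, a ∈ U₂ ∧ a ∉ U₁ ∧ Orb D a b := by
    intro b
    have hr : Set.range I.subschemeι = Z := by
      rw [Scheme.IdealSheafData.range_subschemeι]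
      exact Scheme.IdealSheafData.coe_support_vanishingIdeal .. 
    constructor
    · rintro ⟨z, rfl⟩
      refine ⟨src D (R₂.ι (I.subschemeι z)), (I.subschemeι z).2, hr.le ⟨z, rfl⟩, _, rfl, rfl⟩
    · rintro ⟨a, ha₂, ha₁, ρ, rfl, rfl⟩
      obtain ⟨z, hz⟩ := hr.ge (show (⟨ρ, ha₂⟩ : R₂.toScheme) ∈ (Z : Set R₂.toScheme) from ha₁)
      exact ⟨z, congrArg (fun r ↦ tgt D (R₂.ι r)) hz⟩
  refine ⟨⟨(U₁ : Set D.obj.left) \ closure (Set.range g), U₁.2.sdiff isClosed_closure⟩,
    fun a ha ↦ ⟨hU ha, fun hcl ↦ ?_⟩, fun a ha ↦ ha.1, fun a b ha hab ↦ ?_⟩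
  · obtain ⟨z, hz⟩ := Groth.Agent.FpqcDescent.exists_specializes_of_mem_closure_range g hcl
    obtain ⟨a', -, ha', ha''⟩ := hmem.mp ⟨z, rfl⟩
    exact ha' (h₁ _ _ (hz.mem_open U.2 ha) (ha''.symm D))
  · have hb₂ : b ∈ U₂ := h₂ a b ha.1 hab
    refine ⟨by_contra fun hb₁ ↦ ha.2 (subset_closure (hmem.mpr ⟨b, hb₂, hb₁, hab.symm D⟩)), fun hcl ↦ ?_⟩
    obtain ⟨z, hz⟩ := Groth.Agent.FpqcDescent.exists_specializes_of_mem_closure_range g hcl
    obtain ⟨c, hc₂, hc₁, hc⟩ := hmem.mp ⟨z, rfl⟩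
    obtain ⟨ρ, rfl, rfl⟩ := hab
    haveI := flat_tgt D
    obtain ⟨ρ', hρ', he⟩ := Flat.generalizingMap (f := tgt D) hz
    refine ha.2 ((hρ'.map (src D).continuous).mem_closed isClosed_closure (subset_closure ?_))
    exact hmem.mpr ⟨c, hc₂, hc₁, (he ▸ hc).comp D (Orb.symm D ⟨ρ', rfl, rfl⟩)⟩

end Groth.Agent.SchDescent
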