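import Groth.Agent.SchDescent.Glue

/-!
# Effectivity along refinements and localisation on the base
-/

set_option autoImplicit false
set_option backward.isDefEq.respectTransparency false
set_option backward.isDefEq.respectTransparency.types false

universe w' w u

open CategoryTheory CategoryTheory.Limits AlgebraicGeometry Desc

namespace Groth.Agent.SchDescent

variable {S : Scheme.{u}} {ι : Type w} {X : ι → Scheme.{u}} {f : ∀ i, X i ⟶ S}

/-- A morphism of descent data which is componentwise an isomorphism is an isomorphism. -/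
theorem isIso_of_components {D D' : SchDDFam f} (a : D ⟶ D') (ha : ∀ i, IsIso (a.hom i).left) :
    IsIso a := by
  have hinv : ∀ i, inv (a.hom i).left ≫ (D.obj i).hom = (D'.obj i).hom := fun i ↦ by
    rw [IsIso.inv_comp_eq]
    exact (Over.w (a.hom i)).symm
  let b : D' ⟶ D := ⟨fun i ↦ Over.homMk (inv (a.hom i).left) (hinv i), by
    intro T i j x₀ x₁ h v w hw
    have hw' : w.1 = v.1 ≫ inv (a.hom i).left := hw
    have key := a.comm x₀ x₁ h w v (by simp [hw'])
    show _ = _ ≫ inv (a.hom j).left
    rw [key]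
    simp⟩
  exact ⟨b, by ext i : 3; exact IsIso.hom_inv_id (a.hom i).left,
    by ext i : 3; exact IsIso.inv_hom_id (a.hom i).left⟩

section refinement

variable {ι' : Type w'} {X' : ι' → Scheme.{u}} {f' : ∀ j, X' j ⟶ S} {α : ι' → ι}
  {p' : ∀ j, X' j ⟶ X (α j)} (w : ∀ j, p' j ≫ f (α j) = f' j ≫ 𝟙 S)

/-- The canonical datum pulls back to the canonical datum. -/
noncomputable def canPull (U : Over S) :
    (toDDFam f').obj U ⟶ (pullDDFam w).obj ((toDDFam f).obj U) :=
  ⟨fun j ↦ Over.homMk
    (pullback.lift
      (pullback.lift (pullback.fst (f' j) U.hom ≫ p' j) (pullback.snd (f' j) U.hom)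
        (by rw [Category.assoc, w, Category.comp_id]; exact pullback.condition))
      (pullback.fst (f' j) U.hom) (pullback.lift_fst _ _ _))
    (pullback.lift_snd _ _ _), fun T i j x₀ x₁ h v u hu => by
    have hu' : u.1 = v.1 ≫ _ := hu
    apply pullback.hom_ext
    · apply pullback.hom_ext
      · simp [toDDFam, canonicalDDFam, pullDDFam, pullDDFamObj, liftsPullbackEquiv]
      · simp [toDDFam, canonicalDDFam, pullDDFam, pullDDFamObj, liftsPullbackEquiv, hu']
    · simp [toDDFam, canonicalDDFam, pullDDFam, pullDDFamObj, liftsPullbackEquiv]⟩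

instance isIso_canPull (U : Over S) : IsIso (canPull w U) := by
  refine isIso_of_components _ fun j ↦ ⟨pullback.lift (pullback.snd _ _)
    (pullback.fst _ _ ≫ pullback.snd (f (α j)) U.hom) (by
      rw [Category.assoc, ← pullback.condition (f := f (α j)) (g := U.hom)]
      have e := pullback.condition (f := pullback.fst (f (α j)) U.hom) (g := p' j)
      rw [← Category.comp_id (f' j), ← w, ← Category.assoc]
      exact (congrArg (· ≫ f (α j)) e.symm).trans (Category.assoc _ _ _)), ?_, ?_⟩
  · apply pullback.hom_ext <;> simp [canPull]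
  · apply pullback.hom_ext
    · apply pullback.hom_ext
      · simp [canPull, toDDFam, canonicalDDFam]
        exact pullback.condition.symm
      · simp [canPull, toDDFam, canonicalDDFam]
    · simp [canPull, toDDFam, canonicalDDFam]

/-- Effectivity can be checked after refining the covering. -/
theorem isEffective_of_pull (hf' : IsCover f') (D : SchDDFam f)
    (h : ((pullDDFam w).obj D).IsEffective) : D.IsEffective := by
  obtain ⟨U, ⟨e⟩⟩ := h
  have hR : Refines f f' := refines_of_isCover hf'
  have := pullDDFam_full w hR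
  have := pullDDFam_faithful w hR
  exact ⟨U, ⟨(pullDDFam w).preimageIso ((asIso (canPull w U)).symm ≪≫ e)⟩⟩

/-- Pullbacks of effective data are effective. -/
theorem isEffective_pull (D : SchDDFam f) (h : D.IsEffective) :
    ((pullDDFam w).obj D).IsEffective := by
  obtain ⟨U, ⟨e⟩⟩ := h
  exact ⟨U, ⟨asIso (canPull w U) ≪≫ (pullDDFam w).mapIso e⟩⟩

end refinement

/-- The morphism of families of a restriction of the base. -/
theorem restrict_w {S' : Scheme.{u}} (j : S' ⟶ S) (i : ι) :
    pullback.fst (f i) j ≫ f (id i) = pullback.snd (f i) j ≫ j := pullback.condition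

/-- Effectivity is local on the base. -/
theorem isEffective_of_restrict (hf : IsCover f) (D : SchDDFam f) {κ : Type u} {S' : κ → Scheme.{u}}
    (j : ∀ k, S' k ⟶ S) (hj : ∀ k, IsOpenImmersion (j k)) (hs : ∀ s : S, ∃ k, s ∈ Set.range (j k))
    (h : ∀ k, ((pullDDFam (restrict_w (f := f) (j k))).obj D).IsEffective) : D.IsEffective := by
  choose U he using h
  let e := fun k ↦ (he k).some
  let β : ∀ k i, pullback (f i) ((U k).hom ≫ j k) ⟶ pullback (pullback.snd (f i) (j k)) (U k).hom :=
    fun k i ↦ pullback.lift (pullback.lift (pullback.fst _ _) (pullback.snd _ _ ≫ (U k).hom)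
      (by rw [Category.assoc]; exact pullback.condition)) (pullback.snd _ _) (pullback.lift_snd _ _ _)
  haveI hβ : ∀ k i, IsIso (β k i) := fun k i ↦
    ⟨pullback.lift (pullback.fst _ _ ≫ pullback.fst _ _) (pullback.snd _ _) (by
        rw [← pullback.condition_assoc, Category.assoc, pullback.condition]),
      by apply pullback.hom_ext <;> simp [β],
      by
        apply pullback.hom_ext
        · apply pullback.hom_ext
          · simp [β]
          · simp [β, pullback.condition]
        · simp [β]⟩
  have hover : ∀ k i, (β k i ≫ ((e k).hom.hom i).left ≫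
      pullback.fst (D.obj i).hom (pullback.fst (f i) (j k))) ≫ (D.obj i).hom =
        pullback.fst (f i) ((U k).hom ≫ j k) := by
    intro k i
    have := Over.w ((e k).hom.hom i)
    simp only [toDDFam, canonicalDDFam, pullDDFam, pullDDFamObj, Over.mk_hom] at this
    rw [Category.assoc, Category.assoc, pullback.condition, reassoc_of% this]
    simp [β]
  let a : ∀ k, (toDDFam f).obj (Over.mk ((U k).hom ≫ j k)) ⟶ D := fun k ↦
    ⟨fun i ↦ Over.homMk (β k i ≫ ((e k).hom.hom i).left ≫
      pullback.fst (D.obj i).hom (pullback.fst (f i) (j k))) (hover k i), by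
    intro T i i' x₀ x₁ h v w hw
    let y₀ : T ⟶ pullback (f i) (j k) := v.1 ≫ β k i ≫ pullback.fst _ _
    have hy₀ : y₀ ≫ pullback.fst (f i) (j k) = x₀ := by
      have := v.2
      simp only [toDDFam, canonicalDDFam, Over.mk_hom] at this
      simpa [y₀, β] using this
    let y₁ : T ⟶ pullback (f i') (j k) := pullback.lift x₁ (y₀ ≫ pullback.snd (f i) (j k)) (by
      rw [Category.assoc, ← pullback.condition, ← Category.assoc, hy₀, h])
    have hy : y₀ ≫ pullback.snd (f i) (j k) = y₁ ≫ pullback.snd (f i') (j k) :=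
      (pullback.lift_snd _ _ _).symm
    let v' : Lifts (((toDDFam fun i ↦ pullback.snd (f i) (j k)).obj (U k)).obj i) y₀ :=
      ⟨v.1 ≫ β k i, Category.assoc _ _ _⟩
    let u' : Lifts (((pullDDFam (restrict_w (f := f) (j k))).obj D).obj i) y₀ :=
      ⟨v'.1 ≫ ((e k).hom.hom i).left, by rw [Category.assoc, Over.w]; exact v'.2⟩
    have key := congrArg (· ≫ pullback.fst (D.obj i').hom (pullback.fst (f i') (j k)))
      ((e k).hom.comm y₀ y₁ hy v' u' rfl)
    have e₁ : (((toDDFam fun i ↦ pullback.snd (f i) (j k)).obj (U k)).φ y₀ y₁ hy v').1 =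
        (((toDDFam f).obj (Over.mk ((U k).hom ≫ j k))).φ x₀ x₁ h v).1 ≫ β k i' := by
      apply pullback.hom_ext
      · apply pullback.hom_ext
        · simp [toDDFam, canonicalDDFam, β, y₁]
        · simp [toDDFam, canonicalDDFam, β, y₁, y₀]
      · simp [toDDFam, canonicalDDFam, β, v']
    have hh : (y₀ ≫ pullback.fst (f i) (j k)) ≫ f i = (y₁ ≫ pullback.fst (f i') (j k)) ≫ f i' := by
      rw [hy₀, pullback.lift_fst, h]
    let u₀ : Lifts (D.obj i) (y₀ ≫ pullback.fst (f i) (j k)) :=
      liftsPullbackEquiv (D.obj i) (pullback.fst (f i) (j k)) y₀ u'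
    have e₂ := D.φ_natural (𝟙 T) (y₀ ≫ pullback.fst (f i) (j k)) (y₁ ≫ pullback.fst (f i') (j k))
      hh x₀ x₁ (by rw [Category.id_comp, hy₀]) (by rw [Category.id_comp, pullback.lift_fst]) h u₀ w (by
        rw [hw, Category.id_comp]
        simp [u₀, u', v', liftsPullbackEquiv])
    rw [e₂, Category.id_comp]
    have e₃ : (D.φ _ _ hh u₀).1 = (((toDDFam fun i ↦ pullback.snd (f i) (j k)).obj (U k)).φ y₀ y₁ hy v').1 ≫
        ((e k).hom.hom i').left ≫ pullback.fst (D.obj i').hom (pullback.fst (f i') (j k)) := by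
      rw [← Category.assoc]
      refine Eq.trans ?_ key
      simp [pullDDFam, pullDDFamObj, liftsPullbackEquiv, u₀]
    rw [e₃, e₁]
    simp⟩
  haveI he' : ∀ k i, IsIso ((e k).hom.hom i).left := fun k i ↦
    ⟨((e k).inv.hom i).left, congrArg (fun c ↦ (c.hom i).left) (e k).hom_inv_id,
      congrArg (fun c ↦ (c.hom i).left) (e k).inv_hom_id⟩
  haveI : ∀ k i, IsOpenImmersion (cm (a k) i) := fun k i ↦ by
    haveI := hj k
    haveI : IsOpenImmersion (((e k).hom.hom i).left ≫
        pullback.fst (D.obj i).hom (pullback.fst (f i) (j k))) := by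
      haveI : IsOpenImmersion (pullback.fst (D.obj i).hom (pullback.fst (f i) (j k))) := inferInstance
      exact IsOpenImmersion.comp _ _
    exact inferInstanceAs (IsOpenImmersion (β k i ≫ ((e k).hom.hom i).left ≫
      pullback.fst (D.obj i).hom (pullback.fst (f i) (j k))))
  refine isEffective_of_cover hf a fun i v ↦ ?_
  obtain ⟨k, s, hks⟩ := hs (f i ((D.obj i).hom v))
  obtain ⟨y, hy, -⟩ := Scheme.Pullback.exists_preimage_pullback (f := f i) (g := j k)
    ((D.obj i).hom v) s hks.symm
  obtain ⟨z, hz, -⟩ := Scheme.Pullback.exists_preimage_pullback (f := (D.obj i).hom)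
    (g := pullback.fst (f i) (j k)) v y hy.symm
  obtain ⟨z', hz'⟩ := ((e k).hom.hom i).left.surjective z
  obtain ⟨z'', hz''⟩ := (β k i).surjective z'
  refine ⟨k, z'', ?_⟩
  show (β k i ≫ ((e k).hom.hom i).left ≫ pullback.fst (D.obj i).hom (pullback.fst (f i) (j k))) z'' = v
  rw [Scheme.Hom.comp_apply, Scheme.Hom.comp_apply, hz'']
  exact (congrArg (pullback.fst (D.obj i).hom (pullback.fst (f i) (j k))) hz').trans hz

end Groth.Agent.SchDescent
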