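import Groth.Agent.SchDescent.Coprod

/-!
# Pullback along self maps of families
-/

set_option autoImplicit false
set_option backward.isDefEq.respectTransparency false
set_option backward.isDefEq.respectTransparency.types false

universe w' w u

open CategoryTheory CategoryTheory.Limits AlgebraicGeometry Desc

namespace Groth.Agent.SchDescent

variable {S : Scheme.{u}} {ι : Type w} {X : ι → Scheme.{u}} {f : ∀ i, X i ⟶ S}

section self

variable {α : ι → ι} {p' : ∀ j, X j ⟶ X (α j)} (w : ∀ j, p' j ≫ f (α j) = f j ≫ 𝟙 S) (D : SchDDFam f)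

include w in
lemma self_compat {T : Scheme.{u}} {j : ι} (x : T ⟶ X j) : (x ≫ p' j) ≫ f (α j) = x ≫ f j := by
  rw [Category.assoc, w, Category.comp_id]

/-- The component of the comparison with the pullback along a self map. -/
noncomputable def selfHom (j : ι) : pullback (D.obj (α j)).hom (p' j) ⟶ (D.obj j).left :=
  (D.φ (pullback.snd (D.obj (α j)).hom (p' j) ≫ p' j) (pullback.snd (D.obj (α j)).hom (p' j)) (self_compat w _)
    ⟨pullback.fst _ _, pullback.condition⟩).1

lemma selfHom_hom (j : ι) : selfHom w D j ≫ (D.obj j).hom = pullback.snd _ _ :=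
  (D.φ _ _ _ _).2

lemma comp_selfHom {T : Scheme.{u}} (j : ι) (v : T ⟶ pullback (D.obj (α j)).hom (p' j)) {x : T ⟶ X j}
    (hx : v ≫ pullback.snd _ _ = x) (u : Lifts (D.obj (α j)) (x ≫ p' j)) (hu : u.1 = v ≫ pullback.fst _ _) :
    v ≫ selfHom w D j = (D.φ (x ≫ p' j) x (self_compat w x) u).1 :=
  (D.φ_natural v _ _ (self_compat w _) (x ≫ p' j) x (by rw [← hx, Category.assoc]) hx (self_compat w x)
    ⟨pullback.fst _ _, pullback.condition⟩ u hu).symm

/-- The comparison between the pullback along a self map and the datum. -/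
noncomputable def toSelf : (pullDDFam w).obj D ⟶ D :=
  ⟨fun j ↦ Over.homMk (selfHom w D j) (selfHom_hom w D j), fun T i j x₀ x₁ h v u hu ↦ by
    let v' : Lifts (D.obj (α i)) (x₀ ≫ p' i) := liftsPullbackEquiv (D.obj (α i)) (p' i) x₀ v
    have hu' : u = D.φ (x₀ ≫ p' i) x₀ (self_compat w x₀) v' :=
      Subtype.ext (hu.trans (comp_selfHom w D i v.1 v.2 v' rfl))
    let v₁ := D.φ (x₀ ≫ p' i) (x₁ ≫ p' j) (pull_compat w x₀ x₁ h) v'
    show _ = _ ≫ selfHom w D j
    rw [comp_selfHom w D j _ (((pullDDFam w).obj D).φ x₀ x₁ h v).2 v₁ (by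
      simp [pullDDFam, pullDDFamObj, liftsPullbackEquiv, v₁, v']), hu', D.φ_comp, D.φ_comp]⟩

instance isIso_toSelf : IsIso (toSelf w D) := by
  refine isIso_of_components _ fun j ↦ ?_
  let hc : ((D.obj j).hom ≫ p' j) ≫ f (α j) = (D.obj j).hom ≫ f j := self_compat w _
  let e := D.φ (D.obj j).hom ((D.obj j).hom ≫ p' j) hc.symm ⟨𝟙 _, Category.id_comp _⟩
  have he : pullback.lift e.1 (D.obj j).hom e.2 ≫ selfHom w D j = 𝟙 _ := by
    rw [comp_selfHom w D j _ (pullback.lift_snd _ _ _) e (pullback.lift_fst _ _ _).symm]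
    exact (congrArg Subtype.val (D.φ_comp _ _ _ hc.symm hc _)).trans (congrArg Subtype.val (D.φ_self _ _))
  refine ⟨pullback.lift e.1 (D.obj j).hom e.2, ?_, he⟩
  show selfHom w D j ≫ _ = 𝟙 _
  set r := pullback.snd (D.obj (α j)).hom (p' j)
  let q : Lifts (D.obj (α j)) (r ≫ p' j) := ⟨pullback.fst _ _, pullback.condition⟩
  apply pullback.hom_ext
  · rw [Category.assoc, pullback.lift_fst, Category.id_comp]
    refine (D.φ_natural (selfHom w D j) (D.obj j).hom ((D.obj j).hom ≫ p' j) hc.symm r (r ≫ p' j)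
      (selfHom_hom w D j) (by rw [reassoc_of% selfHom_hom w D j]) (self_compat w r).symm ⟨𝟙 _, Category.id_comp _⟩
      (D.φ (r ≫ p' j) r (self_compat w r) q) (Category.comp_id _).symm).symm.trans ?_
    rw [D.φ_comp, D.φ_self]
  · rw [Category.assoc, pullback.lift_snd, Category.id_comp, selfHom_hom]

/-- Pullback along a self map is isomorphic to the identity. -/
noncomputable def selfIso : pullDDFam w ≅ 𝟭 (SchDDFam f) :=
  NatIso.ofComponents (fun D ↦ @asIso _ _ ((pullDDFam w).obj D) D (toSelf w D) (isIso_toSelf w D)) (fun {D D'} a ↦ by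
    ext j : 3
    set r := pullback.snd (D.obj (α j)).hom (p' j)
    let q : Lifts (D.obj (α j)) (r ≫ p' j) := ⟨pullback.fst _ _, pullback.condition⟩
    have hm : ((pullDDFam w).map a).hom j = ((pullDDFam w).map a).hom j := rfl
    show (((pullDDFam w).map a).hom j).left ≫ selfHom w D' j = selfHom w D j ≫ (a.hom j).left
    rw [comp_selfHom w D' j _ (x := r) (Over.w (((pullDDFam w).map a).hom j)) (SchDDFam.Hom.push a q) (by
      simp [pullDDFam, pullDDFamObj, SchDDFam.Hom.push, q])]
    exact a.comm _ _ _ q _ rfl)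

end self

section comp

variable {ι' : Type w'} {X' : ι' → Scheme.{u}} {f' : ∀ j, X' j ⟶ S} {α : ι' → ι}
  {p' : ∀ j, X' j ⟶ X (α j)} (w : ∀ j, p' j ≫ f (α j) = f' j ≫ 𝟙 S)
  {β : ι → ι'} {q' : ∀ i, X i ⟶ X' (β i)} (w₂ : ∀ i, q' i ≫ f' (β i) = f i ≫ 𝟙 S)

include w w₂ in
lemma comp_w (i : ι) : (q' i ≫ p' (β i)) ≫ f (α (β i)) = f i ≫ 𝟙 S := by
  rw [Category.assoc, w, Category.comp_id, w₂]

/-- Composing two pullbacks. -/
noncomputable def pullComp (D : SchDDFam f) :
    (pullDDFam w₂).obj ((pullDDFam w).obj D) ⟶ (pullDDFam (comp_w w w₂)).obj D :=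
  ⟨fun i ↦ Over.homMk (pullback.lift (pullback.fst _ _ ≫ pullback.fst _ _) (pullback.snd _ _) (by
      simp only [pullDDFam, pullDDFamObj, Over.mk_hom, Category.assoc]
      rw [pullback.condition, ← Category.assoc]
      erw [pullback.condition]
      rw [Category.assoc]))
    (pullback.lift_snd _ _ _), fun T i j x₀ x₁ h v u hu ↦ by
    have hu' : u.1 = v.1 ≫ _ := hu
    apply pullback.hom_ext
    · simp only [pullDDFam, pullDDFamObj, Equiv.trans_apply, liftsPullbackEquiv, Equiv.coe_fn_symm_mk,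
        Equiv.coe_fn_mk, Over.homMk_left, Category.assoc, pullback.lift_fst, pullback.lift_fst_assoc]
      refine (D.φ_natural (𝟙 T) _ _ (pull_compat w _ _ (pull_compat w₂ x₀ x₁ h)) _ _ ?_ ?_
        (pull_compat (comp_w w w₂) x₀ x₁ h) _ _ ?_).trans (Category.id_comp _)
      · rw [Category.id_comp, Category.assoc]
      · rw [Category.id_comp, Category.assoc]
      · simp [hu']
        rfl
    · simp [pullDDFam, pullDDFamObj, liftsPullbackEquiv]⟩

instance isIso_pullComp (D : SchDDFam f) : IsIso (pullComp w w₂ D) := by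
  refine isIso_of_components _ fun i ↦ ⟨pullback.lift (pullback.lift (pullback.fst _ _)
    (pullback.snd _ _ ≫ q' i) (by rw [Category.assoc]; exact pullback.condition)) (pullback.snd _ _)
    (pullback.lift_snd _ _ _), ?_, ?_⟩
  · apply pullback.hom_ext
    · apply pullback.hom_ext
      · simp [pullComp]
      · simp [pullComp]
        exact pullback.condition.symm
    · simp [pullComp]
  · apply pullback.hom_ext <;> simp [pullComp]

include w w₂ in
/-- A family and a family mapping to it and back have the same descent data. -/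
theorem pullDDFam_isEquivalence_of_back : (pullDDFam w).IsEquivalence := by
  have hR : Refines f f' := fun i ↦ ⟨PUnit, fun _ ↦ X i, fun _ ↦ 𝟙 _,
    isCover_of_openCover (fun _ ↦ inferInstance) (fun y ↦ ⟨⟨⟩, y, rfl⟩), fun _ ↦ ⟨β i, q' i, by rw [w₂, Category.comp_id, Category.id_comp]⟩⟩
  have := pullDDFam_full w hR
  have := pullDDFam_faithful w hR
  haveI : (pullDDFam w).EssSurj := ⟨fun E ↦ ⟨(pullDDFam w₂).obj E,
    ⟨asIso (pullComp w₂ w E) ≪≫ (selfIso (comp_w w₂ w)).app E⟩⟩⟩
  exact ⟨inferInstance, inferInstance, inferInstance⟩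

end comp

end Groth.Agent.SchDescent
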